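/-
Transvections in a group of automorphisms of an elementary abelian group of order p³ with a strongly
p-embedded subgroup.
-/
import Cfsg.Agent.Fusion.LineStab
import Mathlib.Tactic
set_option autoImplicit false

namespace Cfsg.Agent.Fusion.RankThree

open Cfsg Cfsg.FusionSystem Cfsg.Agent.Fusion.LineStab

variable {p : ℕ} [hp : Fact p.Prime]

/-- The two properties of a strongly `p`-embedded subgroup used below. -/
structure Trap (p : ℕ) {X : Type*} [Group X] (W : Subgroup X) : Prop where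
  ne_top : W ≠ ⊤
  le : ∀ R : Subgroup X, IsPGroup p R → ∀ r ∈ R, r ∈ W → r ≠ 1 → R ≤ W
  mem : ∀ g r : X, (∃ k, r ^ p ^ k = 1) → r ∈ W → r ≠ 1 → g * r * g⁻¹ ∈ W → g ∈ W

theorem isPGroup_zpowers {X : Type*} [Group X] {r : X} (h : ∃ k, r ^ p ^ k = 1) :
    IsPGroup p (Subgroup.zpowers r) := by
  obtain ⟨k, hk⟩ := h
  rintro ⟨w, hw⟩
  obtain ⟨i, rfl⟩ := Subgroup.mem_zpowers_iff.mp hw
  refine ⟨k, Subtype.ext ?_⟩
  show (r ^ i) ^ p ^ k = 1
  rw [← zpow_natCast, ← zpow_mul, mul_comm, zpow_mul, zpow_natCast, hk, one_zpow]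

/-- Every `p`-subgroup lies in some trap. -/
theorem exists_trap {X Y : Type*} [Group X] [Group Y] [Finite Y] {M : Subgroup Y}
    (h : IsStronglyPEmbedded p M) (π : X →* Y) (hπ : Function.Bijective π)
    {P : Subgroup X} (hP : IsPGroup p P) : ∃ W : Subgroup X, Trap p W ∧ P ≤ W := by
  obtain ⟨T, hTM, -⟩ := stronglyPEmbedded_exists h
  obtain ⟨R', hR'⟩ := (hP.map π).exists_le_sylow
  obtain ⟨x, rfl⟩ := MulAction.exists_smul_eq Y R' T
  let φ : X →* Y := (MulAut.conj x).toMonoidHom.comp π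
  have hφ : Function.Bijective φ := (MulAut.conj x).bijective.comp hπ
  refine ⟨M.comap φ, ⟨fun e => h.2.1 ?_, fun R hR r hr hrW hr1 => ?_, fun g r hr hrW hr1 hg => ?_⟩,
    fun u hu => hTM ⟨π u, hR' ⟨u, hu, rfl⟩, rfl⟩⟩
  · rw [← Subgroup.map_comap_eq_self_of_surjective hφ.2 M, e, Subgroup.map_top_of_surjective _ hφ.2]
  · intro u hu
    exact pGroup_le h (hR.map φ) ⟨r, hr, rfl⟩ hrW (fun e => hr1 (hφ.1 (e.trans (map_one φ).symm)))
      ⟨u, hu, rfl⟩
  · obtain ⟨k, hk⟩ := hr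
    refine stronglyPEmbedded_mem h (R := Subgroup.zpowers (φ r))
      (isPGroup_zpowers ⟨k, by rw [← map_pow, hk, map_one]⟩) ?_ (Subgroup.zpowers_le.2 hrW) ?_
    · rw [Ne, Subgroup.zpowers_eq_bot]
      exact fun e => hr1 (hφ.1 (e.trans (map_one φ).symm))
    · intro w hw
      obtain ⟨i, rfl⟩ := Subgroup.mem_zpowers_iff.mp hw
      have hg' : φ g * φ r * (φ g)⁻¹ ∈ M := by
        have := hg
        rw [Subgroup.mem_comap, map_mul, map_mul, map_inv] at this
        exact this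
      show φ g * φ r ^ i * (φ g)⁻¹ ∈ M
      rw [← conj_zpow]
      exact zpow_mem hg' i

section Abstract

variable {A : Type*} [Group A] [Finite A] {G : Subgroup (MulAut A)}

/-- An automorphism fixing the point normalises the stabiliser. -/
theorem mem_normalizer_stab {v : A} {u : G} (hu : (u : MulAut A) v = v) :
    u ∈ Subgroup.normalizer (stab G v : Set G) := by
  haveI := finite_mulAut (G := A)
  have hinv : (u : MulAut A)⁻¹ v = v := by
    conv_lhs => rw [← hu]
    exact MulAut.inv_apply_self _ _ _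
  refine Subgroup.mem_normalizer_fintype fun t ht => ⟨?_, fun a => ?_⟩
  · show (u : MulAut A) ((t : MulAut A) ((u : MulAut A)⁻¹ v)) = v
    rw [hinv, ht.1, hu]
  · obtain ⟨i, hi⟩ := Subgroup.mem_zpowers_iff.mp (ht.2 ((u : MulAut A)⁻¹ a))
    refine Subgroup.mem_zpowers_iff.mpr ⟨i, ?_⟩
    show v ^ i = a⁻¹ * (u : MulAut A) ((t : MulAut A) ((u : MulAut A)⁻¹ a))
    have h := congrArg (u : MulAut A) hi
    rw [map_zpow, hu, map_mul, map_inv, MulAut.apply_inv_self] at h
    exact h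

/-- A `p`-element of a trap fixing `v` drags the stabiliser of `v` into the trap. -/
theorem stab_le {W : Subgroup G} (hW : Trap p W) (hA : IsPGroup p A) {v : A} {u : G}
    (hu : (u : MulAut A) v = v) (hup : ∃ k, u ^ p ^ k = 1) (huW : u ∈ W) (hu1 : u ≠ 1) :
    stab G v ≤ W :=
  le_sup_right.trans (hW.le _ (IsPGroup.to_sup_of_normal_right' (isPGroup_zpowers hup)
    (isPGroup_stab hA G v) (Subgroup.zpowers_le.mpr (mem_normalizer_stab hu))) u
    (Subgroup.mem_sup_left (Subgroup.mem_zpowers u)) huW hu1)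

theorem conj_mem_stab {v : A} {t g : G} (ht : t ∈ stab G v) :
    g * t * g⁻¹ ∈ stab G ((g : MulAut A) v) := by
  refine ⟨?_, fun a => ?_⟩
  · show (g : MulAut A) ((t : MulAut A) ((g : MulAut A)⁻¹ ((g : MulAut A) v))) = _
    rw [MulAut.inv_apply_self, ht.1]
  · obtain ⟨i, hi⟩ := Subgroup.mem_zpowers_iff.mp (ht.2 ((g : MulAut A)⁻¹ a))
    refine Subgroup.mem_zpowers_iff.mpr ⟨i, ?_⟩
    show (g : MulAut A) v ^ i = a⁻¹ * (g : MulAut A) ((t : MulAut A) ((g : MulAut A)⁻¹ a))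
    have h := congrArg (g : MulAut A) hi
    rw [map_zpow, map_mul, map_inv, MulAut.apply_inv_self] at h
    exact h

variable (t : G) (z : A) (H : Subgroup A) (W : Subgroup G)

/-- A transvection with centre `z` and axis `H`, inside a trap. -/
structure Tv (p : ℕ) : Prop where
  stab : t ∈ stab G z
  fix : ∀ v ∈ H, (t : MulAut A) v = v
  ne : t ≠ 1
  mem : z ∈ H
  trap : Trap p W
  tW : t ∈ W

variable {t z H W}

theorem Tv.pow (h : Tv t z H W p) (hA : IsPGroup p A) : ∃ k, t ^ p ^ k = 1 := by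
  obtain ⟨k, hk⟩ := isPGroup_stab hA G z ⟨t, h.stab⟩
  exact ⟨k, congrArg Subtype.val hk⟩

theorem Tv.center_notMem (h : Tv t z H W p) (hA : IsPGroup p A) {g : G} (hg : g ∉ W) :
    (g : MulAut A) z ∉ H := fun hz => hg <| by
  refine h.trap.mem g t (h.pow hA) h.tW h.ne (stab_le h.trap hA (h.fix _ hz) (h.pow hA) h.tW h.ne
    (conj_mem_stab h.stab))

theorem Tv.notMem_axis (h : Tv t z H W p) (hA : IsPGroup p A) {g : G} (hg : g ∉ W) :
    (g : MulAut A)⁻¹ z ∉ H := fun hz => hg <| by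
  have hfix : ((g * t * g⁻¹ : G) : MulAut A) z = z := by
    show (g : MulAut A) ((t : MulAut A) ((g : MulAut A)⁻¹ z)) = z
    rw [h.fix _ hz, MulAut.apply_inv_self]
  obtain ⟨k, hk⟩ := h.pow hA
  have hpow : ∃ k, (g * t * g⁻¹) ^ p ^ k = 1 := ⟨k, by rw [conj_pow, hk, mul_one, mul_inv_cancel]⟩
  have hp' : IsPGroup p ↥(Subgroup.zpowers (g * t * g⁻¹) ⊔ LineStab.stab G z) :=
    IsPGroup.to_sup_of_normal_right' (isPGroup_zpowers hpow)
      (isPGroup_stab hA G z) (Subgroup.zpowers_le.mpr (mem_normalizer_stab hfix))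
  exact h.trap.mem g t ⟨k, hk⟩ h.tW h.ne (h.trap.le _ hp' t (Subgroup.mem_sup_right h.stab) h.tW h.ne
    (Subgroup.mem_sup_left (Subgroup.mem_zpowers _)))

/-- The trap contains no `p`-group of order `p²`. -/
theorem Tv.card_le (h : Tv t z H W p) (hA : IsPGroup p A) (hcard : Nat.card A = p ^ 3)
    (hHc : Nat.card H = p ^ 2) (hexp : ∀ a : A, a ^ p = 1)
    {P : Subgroup G} (hP : IsPGroup p P) (hPW : P ≤ W) : Nat.card P ≤ p := by
  classical
  haveI := finite_mulAut (G := A)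
  by_contra hlt
  push Not at hlt
  have hp2 := hp.out.two_le
  have hPc : p ^ 2 ≤ Nat.card P := by
    obtain ⟨k, hk⟩ := IsPGroup.iff_card.mp hP
    rw [hk] at hlt ⊢
    refine Nat.pow_le_pow_right hp.out.pos ?_
    by_contra h2
    exact hlt.not_ge ((Nat.pow_le_pow_right hp.out.pos (show k ≤ 1 by omega)).trans (pow_one p).le)
  obtain ⟨g, -, hg⟩ := SetLike.exists_of_lt (lt_top_iff_ne_top.mpr h.trap.ne_top)
  obtain ⟨w, hw⟩ : ∃ w : A, (g : MulAut A) z = w := ⟨_, rfl⟩
  have hzH : w ∉ H := hw ▸ h.center_notMem hA hg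
  have hw1 : w ≠ 1 := fun e => hzH (by rw [e]; exact H.one_mem)
  have hstab : g * t * g⁻¹ ∈ LineStab.stab G w := hw ▸ conj_mem_stab h.stab
  have how : orderOf w = p := orderOf_eq_prime (hexp w) hw1
  -- the elements of `P` move the powers of `w` freely
  have hfree : ∀ u ∈ P, (u : MulAut A) w ∈ Subgroup.zpowers w → u = 1 := by
    intro u hu hum
    obtain ⟨m, hm⟩ := Subgroup.mem_zpowers_iff.mp hum
    obtain ⟨k, hk⟩ := hP ⟨u, hu⟩
    have hk' : u ^ p ^ k = 1 := congrArg Subtype.val hk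
    have hiter : ∀ i : ℕ, ((u ^ i : G) : MulAut A) w = w ^ (m ^ i) := by
      intro i
      induction i with
      | zero => simp
      | succ i ih =>
        rw [pow_succ, Subgroup.coe_mul, MulAut.mul_apply, ← hm, map_zpow, ih, ← zpow_mul, ← pow_succ]
    have h1 : w ^ (m ^ p ^ k - 1 : ℤ) = 1 := by
      have h2 := hiter (p ^ k)
      rw [hk', Subgroup.coe_one, MulAut.one_apply] at h2
      rw [zpow_sub, ← h2, zpow_one, mul_inv_cancel]
    rw [← orderOf_dvd_iff_zpow_eq_one, how] at h1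
    have hfer : ((m : ZMod p)) ^ p ^ k = m := ZMod.pow_card_pow _
    have h3 : ((m : ZMod p)) = 1 := by
      have := (ZMod.intCast_zmod_eq_zero_iff_dvd _ p).mpr h1
      push_cast at this
      rw [hfer] at this
      exact sub_eq_zero.mp this
    have hfix : (u : MulAut A) w = w := by
      rw [← hm]
      have h4 : (p : ℤ) ∣ m - 1 := (ZMod.intCast_zmod_eq_zero_iff_dvd _ p).mp (by push_cast; rw [h3, sub_self])
      rw [← how, orderOf_dvd_iff_zpow_eq_one, zpow_sub, zpow_one, mul_inv_eq_one] at h4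
      exact h4
    by_contra hu1
    exact hg (h.trap.mem g t (h.pow hA) h.tW h.ne (stab_le h.trap hA hfix ⟨k, hk'⟩ (hPW hu) hu1 hstab))
  have hoff : ∀ u ∈ P, (u : MulAut A) w ∉ H := by
    intro u hu
    have hug : u * g ∉ W := fun hm => hg (by simpa using W.mul_mem (W.inv_mem (hPW hu)) hm)
    rw [← hw]
    exact h.center_notMem hA hug
  let S0 := {v : A // v ∉ H}
  have hpow : ∀ (v : A), v ∉ H → ∀ i, i < p - 1 → v ^ (i + 1) ∉ H := by
    intro v hv i hi hm
    have hv1 : v ≠ 1 := fun e => hv (by rw [e]; exact H.one_mem)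
    have hord : orderOf v = p := orderOf_eq_prime (hexp v) hv1
    have hco : Nat.Coprime (i + 1) (orderOf v) := by
      rw [hord]
      exact ((hp.out.coprime_iff_not_dvd).mpr fun hd => by
        have := Nat.le_of_dvd (Nat.succ_pos _) hd
        omega).symm
    obtain ⟨j, hj⟩ := exists_pow_eq_self_of_coprime hco
    exact hv (hj ▸ H.pow_mem hm j)
  let f : P × Fin (p - 1) → S0 := fun q =>
    ⟨((q.1 : G) : MulAut A) w ^ ((q.2 : ℕ) + 1), hpow _ (hoff q.1 q.1.2) _ q.2.2⟩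
  have hlt' : ∀ i : Fin (p - 1), (i : ℕ) + 1 < p := fun i => by have := i.2; omega
  have hinj : Function.Injective f := by
    rintro ⟨⟨u1, hu1⟩, j1⟩ ⟨⟨u2, hu2⟩, j2⟩ e
    have e' : (u1 : MulAut A) w ^ ((j1 : ℕ) + 1) = (u2 : MulAut A) w ^ ((j2 : ℕ) + 1) := congrArg Subtype.val e
    have e2 : ((u2⁻¹ * u1 : G) : MulAut A) (w ^ ((j1 : ℕ) + 1)) = w ^ ((j2 : ℕ) + 1) := by
      show (u2 : MulAut A)⁻¹ ((u1 : MulAut A) (w ^ ((j1 : ℕ) + 1))) = _
      rw [map_pow (u1 : MulAut A), e', ← map_pow (u2 : MulAut A), MulAut.inv_apply_self]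
    have hco : Nat.Coprime ((j1 : ℕ) + 1) (orderOf w) := by
      rw [how]
      exact ((hp.out.coprime_iff_not_dvd).mpr fun hd => by
        have := Nat.le_of_dvd (Nat.succ_pos _) hd
        have := hlt' j1
        omega).symm
    obtain ⟨j, hj⟩ := exists_pow_eq_self_of_coprime hco
    have hmem : ((u2⁻¹ * u1 : G) : MulAut A) w ∈ Subgroup.zpowers w := by
      rw [← hj, map_pow, e2, hj, ← pow_mul]
      exact Subgroup.npow_mem_zpowers w _
    have hu : u2⁻¹ * u1 = 1 := hfree _ (P.mul_mem (P.inv_mem hu2) hu1) hmem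
    obtain rfl : u1 = u2 := (inv_mul_eq_one.mp hu).symm
    replace e' : w ^ ((j1 : ℕ) + 1) = w ^ ((j2 : ℕ) + 1) :=
      EquivLike.injective (u1 : MulAut A) (by rw [map_pow, map_pow]; exact e')
    refine Prod.ext rfl (Fin.ext ?_)
    have := pow_injOn_Iio_orderOf (show (j1 : ℕ) + 1 < orderOf w by rw [how]; exact hlt' j1)
      (show (j2 : ℕ) + 1 < orderOf w by rw [how]; exact hlt' j2) e'
    simpa using this
  have hS0 : Nat.card S0 + p ^ 2 = p ^ 3 := by
    rw [← hcard, ← hHc]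
    haveI := Fintype.ofFinite A
    simp only [Nat.card_eq_fintype_card, S0, Fintype.card_subtype_compl]
    exact Nat.sub_add_cancel (Fintype.card_subtype_le _)
  have hsurj : Function.Surjective f := by
    refine ((Nat.bijective_iff_injective_and_card f).mpr ⟨hinj, le_antisymm (Nat.card_le_card_of_injective f hinj) ?_⟩).2
    rw [Nat.card_prod, Nat.card_fin]
    have h2 : p ^ 2 * (p - 1) ≤ Nat.card P * (p - 1) := Nat.mul_le_mul_right _ hPc
    have h3 : p ^ 3 = p ^ 2 * (p - 1) + p ^ 2 := by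
      obtain ⟨r, rfl⟩ : ∃ r, p = r + 1 := ⟨p - 1, by omega⟩
      simp; ring
    omega
  -- a second centre on the axis of the moved transvection
  set H' := H.map (g : MulAut A).toMonoidHom with hH'
  have hH'c : Nat.card H' = p ^ 2 := by
    rw [hH', Subgroup.card_map_of_injective (EquivLike.injective (g : MulAut A)), hHc]
  have hwH' : w ∈ H' := ⟨z, h.mem, hw⟩
  obtain ⟨v, hv, hvH, hvw⟩ : ∃ v ∈ H', v ∉ H ∧ v ∉ Subgroup.zpowers w := by
    by_contra hno
    push Not at hno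
    have hcover : H' ≤ H ⊔ Subgroup.zpowers w → True := fun _ => trivial
    have hcase : H' ≤ H ∨ H' ≤ Subgroup.zpowers w := by
      by_contra hc
      push Not at hc
      obtain ⟨a, ha, haH⟩ := SetLike.not_le_iff_exists.mp hc.1
      obtain ⟨b, hb, hbw⟩ := SetLike.not_le_iff_exists.mp hc.2
      have hbH : b ∈ H := by by_contra hh; exact hbw (hno b hb hh)
      have haw := hno a ha haH
      rcases Classical.em (a * b ∈ H) with hab | hab
      · exact haH (by simpa using H.mul_mem hab (H.inv_mem hbH))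
      · exact hbw (by simpa using Subgroup.mul_mem _ (Subgroup.inv_mem _ haw) (hno _ (H'.mul_mem ha hb) hab))
    rcases hcase with hc | hc
    · exact hzH (hc hwH')
    · have := Subgroup.card_le_of_le hc
      rw [hH'c, Nat.card_zpowers, how] at this
      nlinarith
  obtain ⟨⟨⟨u, hu⟩, j⟩, hj⟩ := hsurj ⟨v, hvH⟩
  have hj' : (u : MulAut A) w ^ ((j : ℕ) + 1) = v := congrArg Subtype.val hj
  have huw : (u : MulAut A) w ∈ H' := by
    set y := (u : MulAut A) w
    have hord : orderOf y = p := by rw [show y = (u : MulAut A) w from rfl, MulEquiv.orderOf_eq, how]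
    have hco : Nat.Coprime ((j : ℕ) + 1) (orderOf y) := by
      rw [hord]
      exact ((hp.out.coprime_iff_not_dvd).mpr fun hd => by
        have := Nat.le_of_dvd (Nat.succ_pos _) hd
        have := hlt' j
        omega).symm
    obtain ⟨i, hi⟩ := exists_pow_eq_self_of_coprime hco
    exact hi ▸ H'.pow_mem (hj' ▸ hv) i
  have hu1 : u ≠ 1 := by
    rintro rfl
    refine hvw (hj' ▸ ?_)
    simpa using Subgroup.npow_mem_zpowers w ((j : ℕ) + 1)
  -- the conjugate of `u` lies in the trap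
  obtain ⟨y, hy, hy'⟩ := huw
  have hzy : ((g⁻¹ * u * g : G) : MulAut A) z ∈ H := by
    have e : (g : MulAut A)⁻¹ ((u : MulAut A) w) = y := by
      rw [← hy']
      exact MulAut.inv_apply_self _ _ _
    show (g : MulAut A)⁻¹ ((u : MulAut A) ((g : MulAut A) z)) ∈ H
    rw [hw, e]; exact hy
  have hh : g⁻¹ * u * g ∈ W := by
    by_contra hh
    exact h.center_notMem hA hh hzy
  obtain ⟨k, hk⟩ := hP ⟨u, hu⟩
  refine hg (h.trap.mem g (g⁻¹ * u * g) ⟨k, ?_⟩ hh (fun e => hu1 ?_) ?_)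
  · have hk' : u ^ p ^ k = 1 := congrArg Subtype.val hk
    calc (g⁻¹ * u * g) ^ p ^ k = (g⁻¹ * u * g⁻¹⁻¹) ^ p ^ k := by rw [inv_inv]
      _ = g⁻¹ * u ^ p ^ k * g⁻¹⁻¹ := conj_pow
      _ = 1 := by rw [hk']; group
  · have e2 : g * (g⁻¹ * u * g) * g⁻¹ = 1 := by rw [e, mul_one, mul_inv_cancel]
    simpa [mul_assoc] using e2
  · simpa [mul_assoc] using hPW hu

theorem Tv.ne_one (h : Tv t z H W p) : z ≠ 1 := fun e => h.ne <| Subtype.ext <| MulEquiv.ext fun a => by
  have := h.stab.2 a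
  rw [e, Subgroup.zpowers_one_eq_bot, Subgroup.mem_bot, inv_mul_eq_one] at this
  exact this.symm

/-- Powers with exponent in `ZMod p`. -/
def pw (v : A) (a : ZMod p) : A := v ^ a.val

omit [Finite A] in
theorem pw_add {v : A} (hv : v ^ p = 1) (a b : ZMod p) : pw v (a + b) = pw v a * pw v b := by
  rw [pw, pw, pw, ← pow_add, ZMod.val_add]
  exact (pow_eq_pow_mod (a.val + b.val) hv).symm

omit [Finite A] in
theorem pw_mul {v : A} (hv : v ^ p = 1) (a b : ZMod p) : pw v (a * b) = pw (pw v a) b := by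
  rw [pw, pw, pw, ← pow_mul, ZMod.val_mul]
  exact (pow_eq_pow_mod (a.val * b.val) hv).symm

omit [Finite A] in
theorem pw_one (v : A) : pw v (1 : ZMod p) = v := by
  rw [pw, ZMod.val_one, pow_one]

omit [Finite A] in
theorem map_pw (T : MulAut A) (v : A) (a : ZMod p) : T (pw v a) = pw (T v) a := map_pow T v _

omit [Finite A] in
theorem mul_pw {v w : A} (h : Commute v w) (a : ZMod p) : pw (v * w) a = pw v a * pw w a := h.mul_pow _

omit [Finite A] in
theorem exists_pw {v a : A} (hv : v ^ p = 1) (ha : a ∈ Subgroup.zpowers v) : ∃ i : ZMod p, a = pw v i := by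
  obtain ⟨i, rfl⟩ := Subgroup.mem_zpowers_iff.mp ha
  refine ⟨(i : ZMod p), ?_⟩
  rw [pw, ← zpow_natCast, ZMod.val_intCast]
  exact zpow_eq_zpow_emod' i hv

/-- A torus in the group generated by two transvections. -/
theorem Tv.torus (h : Tv t z H W p) (hA : IsPGroup p A) (hcard : Nat.card A = p ^ 3)
    (hHc : Nat.card H = p ^ 2) (hexp : ∀ a : A, a ^ p = 1) (hcomm : ∀ a b : A, a * b = b * a) :
    ∃ x c : A, x ∉ H ∧ c ∈ H ∧ c ∉ Subgroup.zpowers z ∧ ∀ l : ZMod p, l ≠ 0 →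
      ∃ f ∈ G, f z = pw z l ∧ f x = pw x l⁻¹ ∧ f c = c := by
  classical
  have hp2 := hp.out.two_le
  obtain ⟨g, -, hg⟩ := SetLike.exists_of_lt (lt_top_iff_ne_top.mpr h.trap.ne_top)
  set H' := H.map (g : MulAut A).toMonoidHom with hH'
  have hH'c : Nat.card H' = p ^ 2 := by
    rw [hH', Subgroup.card_map_of_injective (EquivLike.injective (g : MulAut A)), hHc]
  obtain ⟨x, hx⟩ : ∃ x : A, (g : MulAut A) z = x := ⟨_, rfl⟩
  have hxH : x ∉ H := hx ▸ h.center_notMem hA hg
  have hzH' : z ∉ H' := by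
    rintro ⟨y, hy, e⟩
    refine h.notMem_axis hA hg ?_
    rw [← e]
    show (g : MulAut A)⁻¹ ((g : MulAut A) y) ∈ H
    rw [MulAut.inv_apply_self]; exact hy
  have hz1 := h.ne_one
  obtain ⟨c, ⟨hcH, hcH'⟩, hc1⟩ : ∃ c, (c ∈ H ∧ c ∈ H') ∧ c ≠ 1 := by
    by_contra hno
    push Not at hno
    let m : H × H' → A := fun q => q.1 * q.2
    have hm : Function.Injective m := by
      rintro ⟨a, b⟩ ⟨a', b'⟩ e
      have e' : (a : A) * b = a' * b' := e
      have h1 : (a' : A)⁻¹ * a = b' * (b : A)⁻¹ := by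
        rw [eq_mul_inv_iff_mul_eq, mul_assoc, e', inv_mul_cancel_left]
      have h2 := hno ((a' : A)⁻¹ * a) ⟨H.mul_mem (H.inv_mem a'.2) a.2, h1 ▸ H'.mul_mem b'.2 (H'.inv_mem b.2)⟩
      have ha : a = a' := Subtype.ext (inv_mul_eq_one.mp h2).symm
      subst ha
      exact Prod.ext rfl (Subtype.ext (mul_left_cancel e'))
    have := Nat.card_le_card_of_injective m hm
    rw [Nat.card_prod, hHc, hH'c, hcard, ← pow_add, Nat.pow_le_pow_iff_right hp.out.one_lt] at this
    omega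
  have hcz : c ∉ Subgroup.zpowers z := by
    intro hm
    obtain ⟨i, hi⟩ := exists_pw (hexp z) hm
    have hi0 : i ≠ 0 := by rintro rfl; simp [pw] at hi; exact hc1 hi
    refine hzH' ?_
    rw [← pw_one (p := p) z, ← mul_inv_cancel₀ hi0, pw_mul (hexp z), ← hi]
    exact H'.pow_mem hcH' _
  -- the two transvections
  set t' := g * t * g⁻¹ with ht'
  have ht'H : ∀ v ∈ H', (t' : MulAut A) v = v := by
    rintro _ ⟨y, hy, rfl⟩
    show (g : MulAut A) ((t : MulAut A) ((g : MulAut A)⁻¹ ((g : MulAut A) y))) = (g : MulAut A) y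
    rw [MulAut.inv_apply_self, h.fix y hy]
  have hxH' : x ∈ H' := ⟨z, h.mem, hx⟩
  have hgen : ∀ (K : Subgroup A) (v : A), Nat.card K = p ^ 2 → v ∉ K → ∀ u : A, ∃ a ∈ K, ∃ i : ZMod p, u = a * pw v i := by
    intro K v hK hv u
    haveI : K.Normal := ⟨fun a ha b => by rwa [hcomm b a, mul_assoc, mul_inv_cancel, mul_one]⟩
    have hi : K.index = p := by
      have := K.index_mul_card
      rw [hK, hcard, show p ^ 3 = p * p ^ 2 by ring] at this
      exact Nat.eq_of_mul_eq_mul_right (pow_pos hp.out.pos 2) this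
    haveI : Fact (Nat.card (A ⧸ K)).Prime := ⟨by rw [← Subgroup.index_eq_card, hi]; exact hp.out⟩
    have htop : Subgroup.zpowers (v : A ⧸ K) = ⊤ := (Subgroup.eq_bot_or_eq_top_of_prime_card _).resolve_left fun e =>
      hv ((QuotientGroup.eq_one_iff v).mp (Subgroup.zpowers_eq_bot.mp e))
    obtain ⟨i, hi'⟩ := Subgroup.mem_zpowers_iff.mp (htop.ge (Subgroup.mem_top (u : A ⧸ K)))
    obtain ⟨j, hj⟩ := exists_pw (hexp v) (Subgroup.zpow_mem _ (Subgroup.mem_zpowers v) i)
    refine ⟨u * (pw v j)⁻¹, ?_, j, (inv_mul_cancel_right u _).symm⟩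
    rw [← QuotientGroup.eq_one_iff, ← hj, QuotientGroup.mk_mul, QuotientGroup.mk_inv, QuotientGroup.mk_zpow, hi', mul_inv_cancel]
  obtain ⟨α, hα⟩ := exists_pw (hexp z) (h.stab.2 x)
  obtain ⟨β, hβ⟩ := exists_pw (hexp x) (show z⁻¹ * (t' : MulAut A) z ∈ Subgroup.zpowers x from
    hx ▸ (conj_mem_stab h.stab).2 z)
  have htx : (t : MulAut A) x = x * pw z α := by rw [← hα, mul_inv_cancel_left]
  have htz : (t' : MulAut A) z = z * pw x β := by rw [← hβ, mul_inv_cancel_left]
  have hα0 : α ≠ 0 := by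
    rintro rfl
    refine h.ne (Subtype.ext (MulEquiv.ext fun u => ?_))
    obtain ⟨a, ha, i, rfl⟩ := hgen H x hHc hxH u
    show (t : MulAut A) (a * pw x i) = a * pw x i
    rw [map_mul, h.fix a ha, pw, map_pow, htx]
    simp [pw]
  have hβ0 : β ≠ 0 := by
    rintro rfl
    have hne : t' ≠ 1 := fun e => h.ne (by simpa [ht', mul_assoc] using congrArg (fun w => g⁻¹ * w * g) e)
    refine hne (Subtype.ext (MulEquiv.ext fun u => ?_))
    obtain ⟨a, ha, i, rfl⟩ := hgen H' z hH'c hzH' u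
    show (t' : MulAut A) (a * pw z i) = a * pw z i
    rw [map_mul, ht'H a ha, pw, map_pow, htz]
    simp [pw]
  -- the coordinates
  let E : ZMod p → ZMod p → A := fun i j => pw z i * pw x j
  have hX : ∀ a : ZMod p, ∃ T ∈ G, T c = c ∧ ∀ i j, T (E i j) = E (i + a * j) j := by
    intro a
    set n := (a * α⁻¹).val with hn
    have hit : ∀ m : ℕ, ((t ^ m : G) : MulAut A) x = x * pw z ((m : ZMod p) * α) ∧
        ((t ^ m : G) : MulAut A) z = z ∧ ((t ^ m : G) : MulAut A) c = c := by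
      intro m
      induction m with
      | zero => simp [pw]
      | succ m ih =>
        rw [pow_succ', Subgroup.coe_mul]
        simp only [MulAut.mul_apply, ih.1, ih.2.1, ih.2.2]
        refine ⟨?_, h.fix z h.mem, h.fix c hcH⟩
        rw [map_mul, htx, map_pw, h.fix z h.mem, Nat.cast_succ, add_one_mul,
          add_comm, pw_add (hexp z), mul_assoc]
    obtain ⟨h1, h2, h3⟩ := hit n
    refine ⟨((t ^ n : G) : MulAut A), (t ^ n).2, h3, fun i j => ?_⟩
    show ((t ^ n : G) : MulAut A) (pw z i * pw x j) = pw z (i + a * j) * pw x j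
    rw [map_mul, map_pw, map_pw, h2, h1, mul_pw (hcomm _ _), hn, ZMod.natCast_zmod_val,
      inv_mul_cancel_right₀ hα0, pw_add (hexp z), pw_mul (hexp z) a j, hcomm (pw x j), ← mul_assoc]
  have hY : ∀ b : ZMod p, ∃ T ∈ G, T c = c ∧ ∀ i j, T (E i j) = E i (j + b * i) := by
    intro b
    set n := (b * β⁻¹).val with hn
    have hit : ∀ m : ℕ, ((t' ^ m : G) : MulAut A) z = z * pw x ((m : ZMod p) * β) ∧
        ((t' ^ m : G) : MulAut A) x = x ∧ ((t' ^ m : G) : MulAut A) c = c := by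
      intro m
      induction m with
      | zero => simp [pw]
      | succ m ih =>
        rw [pow_succ', Subgroup.coe_mul]
        simp only [MulAut.mul_apply, ih.1, ih.2.1, ih.2.2]
        refine ⟨?_, ht'H x hxH', ht'H c hcH'⟩
        rw [map_mul, htz, map_pw, ht'H x hxH', Nat.cast_succ, add_one_mul,
          add_comm, pw_add (hexp x), mul_assoc]
    obtain ⟨h1, h2, h3⟩ := hit n
    refine ⟨((t' ^ n : G) : MulAut A), (t' ^ n).2, h3, fun i j => ?_⟩
    show ((t' ^ n : G) : MulAut A) (pw z i * pw x j) = pw z i * pw x (j + b * i)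
    rw [map_mul, map_pw, map_pw, h2, h1, mul_pw (hcomm _ _), hn, ZMod.natCast_zmod_val,
      inv_mul_cancel_right₀ hβ0, pw_add (hexp x), pw_mul (hexp x) b i, mul_assoc, hcomm (pw (pw x b) i) (pw x j)]
  refine ⟨x, c, hxH, hcH, hcz, fun l hl => ?_⟩
  obtain ⟨T1, hT1, c1, e1⟩ := hX (-1)
  obtain ⟨T2, hT2, c2, e2⟩ := hY 1
  obtain ⟨T3, hT3, c3, e3⟩ := hX l
  obtain ⟨T4, hT4, c4, e4⟩ := hY (-l⁻¹)
  refine ⟨T3 * T4 * T3 * T1 * T2 * T1,
    mul_mem (mul_mem (mul_mem (mul_mem (mul_mem hT3 hT4) hT3) hT1) hT2) hT1, ?_, ?_, ?_⟩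
  · have : z = E 1 0 := by simp [E, pw, ZMod.val_one]
    conv_lhs => rw [this]
    simp only [MulAut.mul_apply, e1, e2, e3, e4]
    simp [E, pw, hl]
  · have : x = E 0 1 := by simp [E, pw, ZMod.val_one]
    conv_lhs => rw [this]
    simp only [MulAut.mul_apply, e1, e2, e3, e4]
    simp [E, pw, hl]
  · simp only [MulAut.mul_apply, c1, c2, c3, c4]

end Abstract

end Cfsg.Agent.Fusion.RankThree
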