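/-
The normalizer of an elementary abelian essential subgroup of order p³.
-/
import Cfsg.Agent.Fusion.RankThree.Strong
import Cfsg.Agent.Fusion.StronglyEmbedded
set_option autoImplicit false

namespace Cfsg.Agent.Fusion.RankThree

open scoped commutatorElement
open Cfsg Cfsg.FusionSystem Cfsg.Agent.Fusion.LineStab

variable {Ω : Type*} [Group Ω] {S : Subgroup Ω} {F : FusionSystem S} {p : ℕ} [hp : Fact p.Prime]

/-- `f` acts on `K / L` as the power map with exponent `e`. -/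
def Ex (f : Ω → Ω) (K L : Subgroup Ω) (e : ZMod p) : Prop := ∀ y ∈ K, (pw y e)⁻¹ * f y ∈ L

theorem pw_inj {H : Type*} [Group H] {v : H} (hv : v ^ p = 1) (hv1 : v ≠ 1) {i j : ZMod p}
    (h : pw v i = pw v j) : i = j :=
  ZMod.val_injective p (pow_injOn_Iio_orderOf (x := v)
    (show i.val < orderOf v by rw [orderOf_eq_prime hv hv1]; exact i.val_lt)
    (show j.val < orderOf v by rw [orderOf_eq_prime hv hv1]; exact j.val_lt) h)

theorem conj_pw {H : Type*} [Group H] (a v : H) (i : ZMod p) : a * pw v i * a⁻¹ = pw (a * v * a⁻¹) i :=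
  conj_pow.symm

theorem mor_map_pw {P : Subgroup Ω} {f : Ω → Ω} (h : Mor F P f) {v : Ω} (hv : v ∈ P) (i : ZMod p) :
    f (pw v i) = pw (f v) i := h.map_pow hv _

theorem pw_mem {H : Subgroup Ω} {v : Ω} (h : v ∈ H) (a : ZMod p) : pw v a ∈ H := H.pow_mem h _

/-- A `p`-group containing `D < E`, both normalised by it, has a central step between them. -/
theorem exists_step {T : Subgroup Ω} [Finite T] (hT : IsPGroup p T) {D E : Subgroup Ω} (hET : E ≤ T)
    (hne : ¬ E ≤ D) (hE : ∀ g ∈ T, ∀ e ∈ E, g * e * g⁻¹ ∈ E) :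
    ∃ v ∈ E, v ∉ D ∧ ∀ g ∈ T, v⁻¹ * (g * v * g⁻¹) ∈ D := by
  have := hT.isNilpotent
  obtain ⟨c, hc⟩ := Subgroup.nilpotent_iff_lowerCentralSeries.mp (show Group.IsNilpotent T from this)
  let Γ := Subgroup.lowerCentralSeries (⊤ : Subgroup T)
  classical
  have hex : ∃ k, E ⊓ (Γ k).map T.subtype ≤ D := ⟨c, by
    show E ⊓ ((⊤ : Subgroup T).lowerCentralSeries c).map T.subtype ≤ D
    rw [hc, Subgroup.map_bot]; exact inf_le_right.trans bot_le⟩
  have h0 : ¬ E ⊓ (Γ 0).map T.subtype ≤ D := fun h => hne fun e he =>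
    h ⟨he, ⟨⟨e, hET he⟩, Subgroup.mem_top _, rfl⟩⟩
  obtain ⟨k, hk⟩ : ∃ k, Nat.find hex = k + 1 :=
    Nat.exists_eq_succ_of_ne_zero fun e => h0 (e ▸ Nat.find_spec hex)
  have hk1 := Nat.find_spec hex
  rw [hk] at hk1
  have hk0 := Nat.find_min hex (show k < Nat.find hex by omega)
  obtain ⟨v, ⟨hvE, ⟨w, hw, rfl⟩⟩, hvD⟩ := SetLike.not_le_iff_exists.mp hk0
  refine ⟨_, hvE, hvD, fun g hg => hk1 ⟨E.mul_mem (E.inv_mem hvE) (hE g hg _ hvE),
    ⟨⁅w⁻¹, (⟨g, hg⟩ : T)⁆, ?_, ?_⟩⟩⟩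
  · show _ ∈ Γ (k + 1)
    rw [show Γ (k + 1) = ⁅Γ k, (⊤ : Subgroup T)⁆ from Subgroup.lowerCentralSeries_succ _ k]
    exact Subgroup.commutator_mem_commutator (inv_mem hw) (Subgroup.mem_top _)
  · simp [commutatorElement_def, mul_assoc]

/-- The data attached to an elementary abelian essential subgroup of order `p³`. -/
structure Datum (F : FusionSystem S) (p : ℕ) (E T Z : Subgroup Ω) (z x : Ω) : Prop where
  centric : F.IsCentric E
  comm : ∀ a ∈ E, ∀ b ∈ E, a * b = b * a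
  exp : ∀ a ∈ E, a ^ p = 1
  cardE : Nat.card E = p ^ 3
  nrm : T = normalizerIn S E
  cardT : Nat.card T = p ^ 4
  cardZ : Nat.card Z = p ^ 2
  ZE : Z ≤ E
  zZ : z ∈ Z
  z_ne : z ≠ 1
  xE : x ∈ E
  xZ : x ∉ Z
  cent : ∀ e ∈ Z, ∀ a ∈ T, a * e = e * a
  cent_eq : ∀ e ∈ T, (∀ a ∈ T, a * e = e * a) → e ∈ Z
  tv : ∀ a ∈ T, ∀ e ∈ E, e⁻¹ * (a * e * a⁻¹) ∈ Subgroup.zpowers z
  tv_ne : ∀ a ∈ T, a * x = x * a → a ∈ E

variable {E : Subgroup Ω}

theorem conj_gen {H : Type*} [Group H] {a v z : H} (hz : a * z = z * a) (hzp : z ^ p = 1) {α : ZMod p}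
    (h : a * v * a⁻¹ = v * pw z α) : ∀ m : ℕ, a ^ m * v * (a ^ m)⁻¹ = v * pw z ((m : ZMod p) * α)
  | 0 => by simp [pw]
  | m + 1 => by
    have hc : a * pw z ((m : ZMod p) * α) * a⁻¹ = pw z ((m : ZMod p) * α) := by
      rw [show Commute a (pw z ((m : ZMod p) * α)) from (show Commute a z from hz).pow_right _, mul_inv_cancel_right]
    calc a ^ (m + 1) * v * (a ^ (m + 1))⁻¹ = a * (a ^ m * v * (a ^ m)⁻¹) * a⁻¹ := by rw [pow_succ']; group
      _ = (a * v * a⁻¹) * (a * pw z ((m : ZMod p) * α) * a⁻¹) := by rw [conj_gen hz hzp h m]; group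
      _ = _ := by rw [h, hc, mul_assoc, ← pw_add hzp]; push_cast; ring_nf

/-- The elements of an abelian group moved by `a` inside a subgroup. -/
def movedIn (E D : Subgroup Ω) (a : Ω) (hab : ∀ u ∈ E, ∀ v ∈ E, u * v = v * u) (hD : D ≤ E) : Subgroup Ω where
  carrier := {e | e ∈ E ∧ e⁻¹ * (a * e * a⁻¹) ∈ D}
  one_mem' := ⟨E.one_mem, by simp⟩
  mul_mem' := fun {u v} hu hv => ⟨E.mul_mem hu.1 hv.1, by
    have e1 : (u * v)⁻¹ * (a * (u * v) * a⁻¹) = v⁻¹ * (u⁻¹ * (a * u * a⁻¹)) * v * (v⁻¹ * (a * v * a⁻¹)) := by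
      simp [mul_assoc]
    rw [e1, hab _ (E.inv_mem hv.1) _ (hD hu.2), inv_mul_cancel_right]
    exact D.mul_mem hu.2 hv.2⟩
  inv_mem' := fun {u} hu => ⟨E.inv_mem hu.1, by
    have e1 : u⁻¹⁻¹ * (a * u⁻¹ * a⁻¹) = u * (u⁻¹ * (a * u * a⁻¹))⁻¹ * u⁻¹ := by simp [mul_assoc]
    rw [e1, hab _ hu.1 _ (E.inv_mem (hD hu.2)), mul_inv_cancel_right]
    exact D.inv_mem hu.2⟩

theorem moved_all [Finite E] {D : Subgroup Ω} {a e0 : Ω} (hcard : Nat.card E = p ^ 3) (hE : IsPGroup p E)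
    (hab : ∀ u ∈ E, ∀ v ∈ E, u * v = v * u) (hD : D ≤ E) {K : Subgroup Ω} (hK : K ≤ E)
    (hKc : p ^ 2 ≤ Nat.card K) (he0 : e0 ∈ E) (he0K : e0 ∉ K)
    (hKD : ∀ k ∈ K, k⁻¹ * (a * k * a⁻¹) ∈ D) (he0D : e0⁻¹ * (a * e0 * a⁻¹) ∈ D) :
    ∀ e ∈ E, e⁻¹ * (a * e * a⁻¹) ∈ D := by
  have hle : movedIn E D a hab hD ≤ E := fun u hu => hu.1
  haveI : Finite (movedIn E D a hab hD) := finite_of_le hle
  have hlt : K < movedIn E D a hab hD := lt_of_le_of_ne (fun k hk => ⟨hK hk, hKD k hk⟩)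
    fun e => he0K (e.ge ⟨he0, he0D⟩)
  have heq : movedIn E D a hab hD = E := eq_of_le_of_card hle (by
    obtain ⟨i, hi⟩ := IsPGroup.iff_card.mp (hE.to_le hle)
    have h1 := hKc.trans_lt (card_lt_of_lt hlt)
    rw [hi, Nat.pow_lt_pow_iff_right hp.out.one_lt] at h1
    rw [hcard, hi]
    exact Nat.pow_le_pow_right hp.out.pos h1)
  exact fun e he => (heq.ge he).2

theorem base [Finite S] (hS : IsPGroup p S) (hF : F.IsSaturated p) (hE : F.IsEssential p E)
    (hab : ∀ a ∈ E, ∀ b ∈ E, a * b = b * a) (hexp : ∀ a ∈ E, a ^ p = 1) (hcard : Nat.card E = p ^ 3)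
    (hbig : p ^ 5 ≤ Nat.card S) :
    ∃ (T Z : Subgroup Ω) (z x c : Ω), Datum F p E T Z z x ∧ c ∈ Z ∧ c ∉ Subgroup.zpowers z ∧
      ∀ l : ZMod p, l ≠ 0 → ∃ f, Iso F f T T ∧ (∀ e ∈ E, f e ∈ E) ∧ f z = pw z l ∧
        f x = pw x l⁻¹ ∧ f c = c ∧ Ex f T E (l * l) := by
  classical
  have hp2 := hp.out.two_le
  have hES : E ≤ S := hE.1.1
  haveI := finite_of_le hES
  haveI := finite_mulAut (G := E)
  set T := normalizerIn S E with hT
  haveI : Finite T := finite_of_le normalizerIn_le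
  have hTp : IsPGroup p T := hS.to_le normalizerIn_le
  have hEA : IsPGroup p E := hS.to_le hES
  have hET : E ≤ T := le_normalizerIn hES
  have hEn : ∀ g ∈ T, ∀ e ∈ E, g * e * g⁻¹ ∈ E := fun g hg e he => (cj_mem_iff hg.2 e).mpr he
  have hfn := hE.2.1
  have hcE : ∀ a ∈ S, (∀ e ∈ E, a * e = e * a) → a ∈ E := fun a ha h =>
    hE.1.2 E (isConj_refl hES) ⟨ha, fun e he => (h e he).symm⟩
  have hcommE : ∀ a b : E, a * b = b * a := fun a b => Subtype.ext (hab _ a.2 _ b.2)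
  have hexpE : ∀ a : E, a ^ p = 1 := fun a => Subtype.ext (hexp _ a.2)
  -- the strongly embedded subgroup on automorphisms
  obtain ⟨hN, M, hM⟩ := hE.2.2
  haveI := hN
  let π := QuotientGroup.mk' ((Inn E).subgroupOf (F.autGroup E))
  have hπ : Function.Bijective π := ⟨(MonoidHom.ker_eq_bot_iff π).mp (by
    rw [QuotientGroup.ker_mk', inn_eq_bot hcommE, Subgroup.bot_subgroupOf]), QuotientGroup.mk'_surjective _⟩
  let ρ : T →* F.autGroup E := (actHom S E).codRestrict _ fun a =>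
    autInducedBy_le_autGroup hES ((range_actHom S E).le ⟨_, rfl⟩)
  have hρ : ∀ (a : T) (e : E), (((ρ a : MulAut E) e : E) : Ω) = (a : Ω) * e * (a : Ω)⁻¹ := fun a e => rfl
  have hρker : ρ.ker = E.subgroupOf T := by
    ext a
    rw [MonoidHom.mem_ker, Subgroup.mem_subgroupOf]
    constructor
    · intro h
      refine hcE a a.2.1 fun e he => ?_
      have h2 := hρ a ⟨e, he⟩
      rw [h] at h2
      exact mul_inv_eq_iff_eq_mul.mp h2.symm
    · intro h
      refine Subtype.ext (MulEquiv.ext fun e => Subtype.ext ?_)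
      rw [hρ a e]
      exact mul_inv_eq_iff_eq_mul.mpr (hab _ h _ e.2)
  have hρc : Nat.card ρ.range * p ^ 3 = Nat.card T := by
    rw [← ρ.ker.index_mul_card, Subgroup.index_ker, hρker,
      Nat.card_congr (Subgroup.subgroupOfEquivOfLe hET).toEquiv, hcard]
  obtain ⟨W, hW, hPW⟩ := exists_trap hM π hπ (hTp.of_surjective _ ρ.rangeRestrict_surjective)
  have hTS : E < T := lt_normalizerIn hS (lt_of_le_of_ne hES fun e => by
    rw [← e, hcard] at hbig
    have := (Nat.pow_le_pow_iff_right hp.out.one_lt).mp hbig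
    omega)
  -- a transvection
  obtain ⟨a, haT, haE, z, hzE, hz1, Z, hZE, hzZ, hZc, hcom, hfix⟩ :
      ∃ a ∈ T, a ∉ E ∧ ∃ z ∈ E, z ≠ 1 ∧ ∃ Z ≤ E, z ∈ Z ∧ Nat.card Z = p ^ 2 ∧
        (∀ e ∈ E, e⁻¹ * (a * e * a⁻¹) ∈ Subgroup.zpowers z) ∧ (∀ e ∈ Z, a * e = e * a) := by
    -- it is enough to move `E` inside a cyclic subgroup
    suffices hs : ∃ a ∈ T, a ∉ E ∧ ∃ z ∈ E, z ≠ 1 ∧ a * z = z * a ∧
        ∀ e ∈ E, e⁻¹ * (a * e * a⁻¹) ∈ Subgroup.zpowers z by
      obtain ⟨a, haT, haE, z, hzE, hz1, hza, hcom⟩ := hs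
      let φ : E →* Ω := MonoidHom.mk' (fun e => (e : Ω)⁻¹ * (a * e * a⁻¹)) fun e f => by
        show ((e : Ω) * f)⁻¹ * (a * (e * f) * a⁻¹) = _
        obtain ⟨i, hi⟩ := Subgroup.mem_zpowers_iff.mp (hcom e e.2)
        calc ((e : Ω) * f)⁻¹ * (a * (e * f) * a⁻¹) = (f : Ω)⁻¹ * z ^ i * (a * f * a⁻¹) := by rw [hi]; group
          _ = z ^ i * ((f : Ω)⁻¹ * (a * f * a⁻¹)) := by
            rw [((show Commute (f : Ω) z from hab _ f.2 _ hzE).inv_left.zpow_right i).eq, mul_assoc]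
          _ = _ := by rw [hi]
      refine ⟨a, haT, haE, z, hzE, hz1, φ.ker.map E.subtype, Subgroup.map_subtype_le _,
        ⟨⟨z, hzE⟩, ?_, rfl⟩, ?_, hcom, ?_⟩
      · show (z⁻¹ : Ω) * (a * z * a⁻¹) = 1
        rw [hza, mul_inv_cancel_right, inv_mul_cancel]
      · rw [Subgroup.card_map_of_injective E.subtype_injective]
        have hr : φ.range ≤ Subgroup.zpowers z := by rintro _ ⟨e, rfl⟩; exact hcom e e.2
        have hzo : orderOf z = p := orderOf_eq_prime (hexp z hzE) hz1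
        haveI : Finite (Subgroup.zpowers z) := finite_of_le (P := Subgroup.zpowers z) (S := E) (Subgroup.zpowers_le.mpr hzE)
        have hrc : Nat.card φ.range = p := by
          refine le_antisymm ((Subgroup.card_le_of_le hr).trans_eq (by rw [Nat.card_zpowers, hzo])) ?_
          have hd : Nat.card φ.range ∣ p := by
            have := Subgroup.card_dvd_of_le hr
            rwa [Nat.card_zpowers, hzo] at this
          rcases (Nat.dvd_prime hp.out).mp hd with h | h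
          · refine absurd (hcE a haT.1 fun e he => ?_) haE
            have h2 : φ ⟨e, he⟩ = 1 := Subgroup.mem_bot.mp (Subgroup.card_eq_one.mp h ▸ ⟨_, rfl⟩)
            exact mul_inv_eq_iff_eq_mul.mp (inv_mul_eq_one.mp h2).symm
          · exact h.ge
        have h := φ.ker.index_mul_card
        rw [Subgroup.index_ker, hrc, hcard, show p ^ 3 = p * p ^ 2 by ring] at h
        exact Nat.eq_of_mul_eq_mul_left hp.out.pos h
      · rintro _ ⟨e, he, rfl⟩
        exact mul_inv_eq_iff_eq_mul.mp (inv_mul_eq_one.mp he).symm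
    obtain ⟨k, hk⟩ := IsPGroup.iff_card.mp hTp
    have hk4 : 4 ≤ k := by
      have := card_lt_of_lt hTS
      rw [hcard, hk, Nat.pow_lt_pow_iff_right hp.out.one_lt] at this
      omega
    rcases hk4.eq_or_lt with hk4' | hk5
    · -- two abelian maximal subgroups of `T`
      subst hk4'
      obtain ⟨r, hrS, hrT, hrn⟩ := exists_mem_normalizer_of_lt hS (lt_of_le_of_ne normalizerIn_le fun e => by
        have h : Nat.card T = Nat.card S := by rw [e]
        rw [hk] at h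
        have := (Nat.pow_le_pow_iff_right hp.out.one_lt).mp (hbig.trans h.ge)
        omega : T < S)
      set E' := E.map (MulAut.conj r).toMonoidHom with hE'
      have hE'T : E' ≤ T := by rintro _ ⟨e, he, rfl⟩; exact (cj_mem_iff hrn e).mpr (hET he)
      have hne : ¬ E' ≤ E := fun h => hrT ⟨hrS, by
        refine Subgroup.mem_normalizer_fintype fun e he => ?_
        exact h ⟨e, he, rfl⟩⟩
      obtain ⟨a, ⟨b, hb, hab'⟩, haE⟩ := SetLike.not_le_iff_exists.mp hne
      have haT : a ∈ T := hE'T ⟨b, hb, hab'⟩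
      have hE'ab : ∀ u ∈ E', ∀ v ∈ E', u * v = v * u := by
        rintro _ ⟨u, hu, rfl⟩ _ ⟨v, hv, rfl⟩
        rw [← map_mul, ← map_mul, hab u hu v hv]
      have hE'c : Nat.card E' = p ^ 3 := by
        rw [hE', Subgroup.card_map_of_injective (MulAut.conj r).injective, hcard]
      haveI : Finite E' := finite_of_le hE'T
      have hidx : ∀ H : Subgroup Ω, H ≤ T → Nat.card H = p ^ 3 → ∀ g ∈ T, ∀ h ∈ H, g * h * g⁻¹ ∈ H := by
        intro H hH hHc g hg h hh
        haveI : Finite H := finite_of_le hH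
        by_cases he : H = T
        · rw [he] at hh ⊢; exact T.mul_mem (T.mul_mem hg hh) (T.inv_mem hg)
        have h1 := lt_inf_normalizer hTp (lt_of_le_of_ne hH he)
        haveI : Finite ↥(T ⊓ Subgroup.normalizer (H : Set Ω)) := finite_of_le inf_le_left
        have h2 : T ⊓ Subgroup.normalizer (H : Set Ω) = T := eq_of_le_of_card inf_le_left (by
          have h3 := card_lt_of_lt h1
          obtain ⟨i, hi⟩ := IsPGroup.iff_card.mp (hTp.to_le (inf_le_left : T ⊓ Subgroup.normalizer (H : Set Ω) ≤ T))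
          rw [hHc, hi, Nat.pow_lt_pow_iff_right hp.out.one_lt] at h3
          rw [hk, hi]; exact Nat.pow_le_pow_right hp.out.pos h3)
        exact (cj_mem_iff (h2.ge hg).2 h).mpr hh
      set D := E ⊓ E'
      have hcomD : ∀ e ∈ E, e⁻¹ * (a * e * a⁻¹) ∈ D := fun e he => ⟨E.mul_mem (E.inv_mem he) (hEn a haT e he), by
        have := E'.mul_mem (hidx E' hE'T hE'c e⁻¹ (T.inv_mem (hET he)) a ⟨b, hb, hab'⟩) (E'.inv_mem ⟨b, hb, hab'⟩)
        simpa [mul_assoc] using this⟩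
      obtain ⟨e0, he0, hne0⟩ : ∃ e ∈ E, e⁻¹ * (a * e * a⁻¹) ≠ 1 := by
        by_contra h
        push Not at h
        exact haE (hcE a haT.1 fun e he => mul_inv_eq_iff_eq_mul.mp (inv_mul_eq_one.mp (h e he)).symm)
      obtain ⟨z, hzdef⟩ : ∃ z, e0⁻¹ * (a * e0 * a⁻¹) = z := ⟨_, rfl⟩
      have hzD : z ∈ D := hzdef ▸ hcomD e0 he0
      refine ⟨a, haT, haE, z, hzD.1, hzdef ▸ hne0, hE'ab a ⟨b, hb, hab'⟩ z hzD.2, fun e he => ?_⟩
      -- `E` is generated by `e0` and `D`
      have hD : ∀ d ∈ D, a * d * a⁻¹ = d := fun d hd => mul_inv_eq_iff_eq_mul.mpr (hE'ab a ⟨b, hb, hab'⟩ d hd.2)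
      haveI : Finite D := finite_of_le (inf_le_left : D ≤ E)
      have hDc : p ^ 2 ≤ Nat.card D := by
        have h1 := Subgroup.relIndex_mul_relIndex ⊥ (E' ⊓ E) E bot_le inf_le_right
        rw [Subgroup.relIndex_bot_left, Subgroup.relIndex_bot_left, Subgroup.inf_relIndex_right, hcard,
          show E' ⊓ E = D from inf_comm _ _] at h1
        have h2 : E'.relIndex T = p := by
          have h3 := Subgroup.relIndex_mul_relIndex ⊥ E' T bot_le hE'T
          rw [Subgroup.relIndex_bot_left, Subgroup.relIndex_bot_left, hE'c, hk, pow_succ p 3] at h3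
          exact Nat.eq_of_mul_eq_mul_left (pow_pos hp.out.pos 3) h3
        have h4 : E'.relIndex E ≤ p := h2 ▸ Subgroup.relIndex_le_of_le_right hET (h2 ▸ hp.out.ne_zero)
        have h5 : p ^ 2 * p ≤ Nat.card D * p := by
          rw [← pow_succ, ← h1]; exact Nat.mul_le_mul_left _ h4
        exact Nat.le_of_mul_le_mul_right h5 hp.out.pos
      refine moved_all hcard hEA hab (Subgroup.zpowers_le.mpr hzD.1) (K := D) inf_le_left hDc he0
        (fun h => hne0 (by rw [hD e0 h, inv_mul_cancel]))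
        (fun d hd => by rw [hD d hd, inv_mul_cancel]; exact one_mem _) ?_ e he
      rw [hzdef]; exact Subgroup.mem_zpowers z
    · -- elements trivial modulo a central subgroup of order `p`
      obtain ⟨z, hzE, hz1, hzc⟩ := exists_step hTp (D := ⊥) hET (fun h => by
        have := Subgroup.card_le_of_le h
        rw [hcard, Subgroup.card_bot] at this
        exact absurd this (Nat.one_lt_pow (by omega) hp.out.one_lt).not_ge) hEn
      rw [Subgroup.mem_bot] at hz1
      have hzT : ∀ g ∈ T, g * z = z * g := fun g hg =>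
        mul_inv_eq_iff_eq_mul.mp (inv_mul_eq_one.mp (Subgroup.mem_bot.mp (hzc g hg))).symm
      set D := Subgroup.zpowers z
      have hzo : orderOf z = p := orderOf_eq_prime (hexp z hzE) hz1
      have hDE : D ≤ E := Subgroup.zpowers_le.mpr hzE
      haveI : Finite D := finite_of_le hDE
      have hDc : Nat.card D = p := by rw [Nat.card_zpowers, hzo]
      obtain ⟨v, hvE, hvD, hvc⟩ := exists_step hTp (D := D) hET (fun h => by
        have := Subgroup.card_le_of_le h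
        rw [hcard, hDc] at this
        exact absurd this (lt_self_pow₀ hp.out.one_lt (by omega)).not_ge) hEn
      set E1 := D ⊔ Subgroup.zpowers v
      have hE1E : E1 ≤ E := sup_le hDE (Subgroup.zpowers_le.mpr hvE)
      haveI : Finite E1 := finite_of_le hE1E
      let g2 : D × Subgroup.zpowers v → Ω := fun q => q.1 * q.2
      have hE1c : Nat.card E1 ≤ p ^ 2 := by
        have hsurj : ∀ u ∈ E1, ∃ q, g2 q = u := by
          intro u hu
          rw [← SetLike.mem_coe, Subgroup.coe_mul_of_left_le_normalizer_right] at hu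
          · obtain ⟨d, hd, w, hw, rfl⟩ := Set.mem_mul.mp hu
            exact ⟨(⟨d, hd⟩, ⟨w, hw⟩), rfl⟩
          · intro d hd
            refine Subgroup.mem_normalizer_iff.mpr fun w => ?_
            constructor
            · intro hw; rwa [hab d (hDE hd) w (Subgroup.zpowers_le.mpr hvE hw), mul_inv_cancel_right]
            · intro hw
              have hwE : w ∈ E := by
                have := E.mul_mem (E.mul_mem (E.inv_mem (hDE hd)) (Subgroup.zpowers_le.mpr hvE hw)) (hDE hd)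
                simpa [mul_assoc] using this
              rwa [hab d (hDE hd) w hwE, mul_inv_cancel_right] at hw
        haveI : Finite (Subgroup.zpowers v) := finite_of_le (Subgroup.zpowers_le.mpr hvE)
        refine (Nat.card_le_card_of_surjective (fun q => (⟨g2 q, Subgroup.mul_mem _
          (Subgroup.mem_sup_left q.1.2) (Subgroup.mem_sup_right q.2.2)⟩ : E1)) fun u => ?_).trans ?_
        · obtain ⟨q, hq⟩ := hsurj u u.2
          exact ⟨q, Subtype.ext hq⟩
        · rw [Nat.card_prod, hDc, Nat.card_zpowers, pow_two]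
          exact Nat.mul_le_mul_left _ (orderOf_le_of_pow_eq_one hp.out.pos (hexp v hvE))
      have hne : ¬ E ≤ E1 := fun h => by
        have h2 := (Subgroup.card_le_of_le h).trans hE1c
        rw [hcard, Nat.pow_le_pow_iff_right hp.out.one_lt] at h2
        omega
      obtain ⟨w, hwE, hw1, hwc⟩ := exists_step hTp (D := E1) hET hne hEn
      have hE1lb : p ^ 2 ≤ Nat.card E1 := by
        obtain ⟨i, hi⟩ := IsPGroup.iff_card.mp (hEA.to_le hE1E)
        have h1 := card_lt_of_lt (lt_of_le_of_ne (le_sup_left : D ≤ E1) fun e =>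
          hvD (e.ge (Subgroup.mem_sup_right (Subgroup.mem_zpowers v))))
        rw [hDc, hi] at h1
        rw [hi]
        refine Nat.pow_le_pow_right hp.out.pos ?_
        by_contra h2
        exact h1.not_ge ((Nat.pow_le_pow_right hp.out.pos (show i ≤ 1 by omega)).trans (pow_one p).le)
      let Φ : T → E1 ⧸ D.subgroupOf E1 := fun g => QuotientGroup.mk ⟨w⁻¹ * (g * w * (g : Ω)⁻¹), hwc g g.2⟩
      have hX : Nat.card (E1 ⧸ D.subgroupOf E1) ≤ p := by
        have h1 := Subgroup.card_eq_card_quotient_mul_card_subgroup (D.subgroupOf E1)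
        rw [Nat.card_congr (Subgroup.subgroupOfEquivOfLe (le_sup_left : D ≤ E1)).toEquiv, hDc] at h1
        refine Nat.le_of_mul_le_mul_right ?_ hp.out.pos
        rw [← h1, ← pow_two]; exact hE1c
      obtain ⟨g, g', hgg, hgE⟩ : ∃ g g' : T, Φ g = Φ g' ∧ ((g⁻¹ * g' : T) : Ω) ∉ E := by
        by_contra hno
        push Not at hno
        let s : T → (E1 ⧸ D.subgroupOf E1) × E := fun g => (Φ g,
          ⟨_, hno (Function.invFun Φ (Φ g)) g (Function.invFun_eq ⟨g, rfl⟩)⟩)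
        have hs : Function.Injective s := fun g g' e => by
          have e1 : Φ g = Φ g' := congrArg Prod.fst e
          have e2 := congrArg (fun q : (E1 ⧸ D.subgroupOf E1) × E => (q.2 : Ω)) e
          simp only [s, e1] at e2
          exact Subtype.ext (mul_left_cancel e2)
        have h2 := Nat.card_le_card_of_injective s hs
        rw [Nat.card_prod, hk, hcard] at h2
        have h3 : p ^ k ≤ p ^ 4 := h2.trans (by rw [pow_succ' p 3]; exact Nat.mul_le_mul_right _ hX)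
        rw [Nat.pow_le_pow_iff_right hp.out.one_lt] at h3
        omega
      refine ⟨_, (g⁻¹ * g' : T).2, hgE, z, hzE, hz1, hzT _ (g⁻¹ * g' : T).2, ?_⟩
      have hin : D ≤ E1 := le_sup_left
      refine moved_all hcard hEA hab hDE (K := E1) hE1E hE1lb hwE hw1 (fun u hu => ?_) ?_
      · have hle : E1 ≤ movedIn E D ((g⁻¹ * g' : T) : Ω) hab hDE := sup_le (fun d hd => ⟨hDE hd, by
          obtain ⟨i, rfl⟩ := Subgroup.mem_zpowers_iff.mp hd
          have hcm : Commute ((g⁻¹ * g' : T) : Ω) (z ^ i) :=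
            (show Commute ((g⁻¹ * g' : T) : Ω) z from hzT _ (g⁻¹ * g' : T).2).zpow_right i
          rw [hcm.eq, mul_inv_cancel_right, inv_mul_cancel]
          exact one_mem _⟩)
          (Subgroup.zpowers_le.mpr ⟨hvE, hvc _ (g⁻¹ * g' : T).2⟩)
        exact (hle hu).2
      · have h1 : (w⁻¹ * ((g : Ω) * w * (g : Ω)⁻¹))⁻¹ * (w⁻¹ * ((g' : Ω) * w * (g' : Ω)⁻¹)) ∈ D :=
          Subgroup.mem_subgroupOf.mp (QuotientGroup.eq.mp hgg)
        obtain ⟨i, hi⟩ := Subgroup.mem_zpowers_iff.mp h1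
        have hcm : Commute ((g : Ω)⁻¹) (z ^ i) :=
          (show Commute (g : Ω) z from hzT _ g.2).inv_left.zpow_right i
        refine Subgroup.mem_zpowers_iff.mpr ⟨i, ?_⟩
        calc z ^ i = (g : Ω)⁻¹ * z ^ i * (g : Ω) := by rw [hcm.eq, inv_mul_cancel_right]
          _ = _ := by rw [hi]; push_cast; group
  let t : F.autGroup E := ρ ⟨a, haT⟩
  let zE : E := ⟨z, hzE⟩
  let H : Subgroup E := Z.subgroupOf E
  have hHc : Nat.card H = p ^ 2 := (Nat.card_congr (Subgroup.subgroupOfEquivOfLe hZE).toEquiv).trans hZc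
  have htv : Tv t zE H W p := by
    refine ⟨⟨Subtype.ext ?_, fun e => ?_⟩, fun v hv => Subtype.ext ?_, fun e => ?_, hzZ, hW, hPW ⟨_, rfl⟩⟩
    · exact mul_inv_eq_iff_eq_mul.mpr (hfix z hzZ)
    · obtain ⟨i, hi⟩ := Subgroup.mem_zpowers_iff.mp (hcom e e.2)
      exact Subgroup.mem_zpowers_iff.mpr ⟨i, Subtype.ext (by simpa [hρ, zE, t] using hi)⟩
    · exact mul_inv_eq_iff_eq_mul.mpr (hfix v hv)
    · have : (⟨a, haT⟩ : T) ∈ ρ.ker := e
      rw [hρker] at this
      exact haE this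
  have hTc : Nat.card T = p ^ 4 := by
    have h1 := htv.card_le hEA (hcard) hHc hexpE (hTp.of_surjective _ ρ.rangeRestrict_surjective) hPW
    obtain ⟨i, hi⟩ := IsPGroup.iff_card.mp hTp
    have h2 := card_lt_of_lt hTS
    rw [hi] at hρc h2 ⊢
    rw [hcard, Nat.pow_lt_pow_iff_right hp.out.one_lt] at h2
    have h3 : p ^ i ≤ p ^ 4 := by rw [← hρc, pow_succ' p 3]; exact Nat.mul_le_mul_right _ h1
    rw [Nat.pow_le_pow_iff_right hp.out.one_lt] at h3
    rw [show i = 4 by omega]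
  obtain ⟨xE, cE, hxH, hcH, hcz, htor⟩ := htv.torus hEA hcard hHc hexpE hcommE
  -- `T` is generated by `a` and `E`
  have hEnT : ∀ g ∈ T, ∃ i : ℕ, (a ^ i)⁻¹ * g ∈ E := by
    intro g hg
    haveI : (E.subgroupOf T).Normal := hρker ▸ inferInstance
    have hic : Nat.card (T ⧸ E.subgroupOf T) = p := by
      have h1 := Subgroup.card_eq_card_quotient_mul_card_subgroup (E.subgroupOf T)
      rw [Nat.card_congr (Subgroup.subgroupOfEquivOfLe hET).toEquiv, hTc, hcard, show p ^ 4 = p * p ^ 3 by ring] at h1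
      exact (Nat.eq_of_mul_eq_mul_right (pow_pos hp.out.pos 3) h1).symm
    haveI : Fact (Nat.card (T ⧸ E.subgroupOf T)).Prime := ⟨hic ▸ hp.out⟩
    haveI : Finite (T ⧸ E.subgroupOf T) := Quotient.finite _
    have htop : Subgroup.zpowers ((⟨a, haT⟩ : T) : T ⧸ E.subgroupOf T) = ⊤ :=
      (Subgroup.eq_bot_or_eq_top_of_prime_card _).resolve_left fun e =>
        haE (Subgroup.mem_subgroupOf.mp ((QuotientGroup.eq_one_iff _).mp (Subgroup.zpowers_eq_bot.mp e)))
    obtain ⟨i, hi⟩ := (isOfFinOrder_of_finite _).mem_zpowers_iff_mem_range_orderOf.mp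
      (htop.ge (Subgroup.mem_top ((⟨g, hg⟩ : T) : T ⧸ E.subgroupOf T))) |>
      fun h => (Finset.mem_image.mp h).imp fun _ h => h.2
    rw [← QuotientGroup.mk_pow] at hi
    exact ⟨i, Subgroup.mem_subgroupOf.mp (QuotientGroup.eq.mp hi)⟩
  have hax : a * (xE : Ω) * a⁻¹ ≠ xE := fun e => by
    refine haE (hcE a haT.1 fun e' he' => ?_)
    have h := moved_all (a := a) hcard hEA hab bot_le (K := Z) hZE hZc.ge xE.2 hxH
      (fun k hk => by rw [mul_inv_eq_iff_eq_mul.mpr (hfix k hk), inv_mul_cancel]; exact one_mem _)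
      (by rw [e, inv_mul_cancel]; exact one_mem _) e' he'
    exact mul_inv_eq_iff_eq_mul.mp (inv_mul_eq_one.mp (Subgroup.mem_bot.mp h)).symm
  have haz : a * z = z * a := hfix z hzZ
  obtain ⟨α, hα⟩ := exists_pw (hexp z hzE) (hcom xE xE.2)
  have hα' : a * (xE : Ω) * a⁻¹ = xE * pw z α := by rw [← hα, mul_inv_cancel_left]
  have hα0 : α ≠ 0 := by rintro rfl; simp [pw] at hα'; exact hax hα'
  refine ⟨T, Z, z, xE, cE, ⟨hE.1, hab, hexp, hcard, hT, hTc, hZc, hZE, hzZ, hz1, xE.2, hxH,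
    fun e he g hg => ?_, fun e he hc => ?_, fun g hg e he => ?_, fun g hg hgx => ?_⟩, hcH, fun h => hcz ?_, fun l hl => ?_⟩
  · obtain ⟨i, hi⟩ := hEnT g hg
    have h1 : Commute ((a ^ i)⁻¹ * g) e := hab _ hi _ (hZE he)
    have h2 : Commute (a ^ i) e := (show Commute a e from hfix e he).pow_left i
    have := h2.mul_left h1
    rwa [mul_inv_cancel_left] at this
  · have heE : e ∈ E := hcE e he.1 fun v hv => (hc v (hET hv)).symm
    by_contra hn
    exact haE (hcE a haT.1 fun v hv => by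
      have h := moved_all (a := a) hcard hEA hab bot_le (K := Z) hZE hZc.ge heE hn
        (fun k hk => by rw [mul_inv_eq_iff_eq_mul.mpr (hfix k hk), inv_mul_cancel]; exact one_mem _)
        (by rw [hc a haT, mul_inv_cancel_right, inv_mul_cancel]; exact one_mem _) v hv
      exact mul_inv_eq_iff_eq_mul.mp (inv_mul_eq_one.mp (Subgroup.mem_bot.mp h)).symm)
  · obtain ⟨i, hi⟩ := hEnT g hg
    have h2 : ∀ m : ℕ, e⁻¹ * (a ^ m * e * (a ^ m)⁻¹) ∈ Subgroup.zpowers z := by
      intro m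
      obtain ⟨γ, hγ⟩ := exists_pw (hexp z hzE) (hcom e he)
      rw [conj_gen (v := e) haz (hexp z hzE) (α := γ) (by rw [← hγ, mul_inv_cancel_left]) m, inv_mul_cancel_left]
      exact Subgroup.npow_mem_zpowers z _
    have h3 : g * e * g⁻¹ = a ^ i * e * (a ^ i)⁻¹ := by
      calc g * e * g⁻¹ = a ^ i * (((a ^ i)⁻¹ * g) * e * ((a ^ i)⁻¹ * g)⁻¹) * (a ^ i)⁻¹ := by group
        _ = _ := by rw [hab _ hi _ he, mul_inv_cancel_right]
    rw [h3]; exact h2 i
  · obtain ⟨i, hi⟩ := hEnT g hg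
    have h3 : a ^ i * (xE : Ω) * (a ^ i)⁻¹ = xE := by
      calc a ^ i * (xE : Ω) * (a ^ i)⁻¹ = a ^ i * (((a ^ i)⁻¹ * g) * xE * ((a ^ i)⁻¹ * g)⁻¹) * (a ^ i)⁻¹ := by
            rw [hab _ hi _ xE.2, mul_inv_cancel_right]
        _ = g * xE * g⁻¹ := by group
        _ = xE := mul_inv_eq_iff_eq_mul.mpr hgx
    rw [conj_gen haz (hexp z hzE) hα' i, mul_eq_left] at h3
    have hi0 : (i : ZMod p) = 0 := by
      by_contra h
      have h4 := pw_mul (hexp z hzE) ((i : ZMod p) * α) ((i : ZMod p) * α)⁻¹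
      rw [mul_inv_cancel₀ (mul_ne_zero h hα0), pw_one, h3] at h4
      exact hz1 (h4.trans (by simp [pw]))
    obtain ⟨j, rfl⟩ := (ZMod.natCast_eq_zero_iff i p).mp hi0
    have hap : a ^ p ∈ E := by
      refine hcE _ (S.pow_mem haT.1 p) fun e he => ?_
      obtain ⟨γ, hγ⟩ := exists_pw (hexp z hzE) (hcom e he)
      have h5 := conj_gen (v := e) haz (hexp z hzE) (α := γ) (by rw [← hγ, mul_inv_cancel_left]) p
      simp [pw] at h5
      exact mul_inv_eq_iff_eq_mul.mp h5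
    have h6 := E.mul_mem (E.pow_mem hap j) hi
    rwa [← pow_mul, mul_inv_cancel_left] at h6
  · obtain ⟨i, hi⟩ := Subgroup.mem_zpowers_iff.mp h
    exact Subgroup.mem_zpowers_iff.mpr ⟨i, Subtype.ext (by simpa [zE] using hi)⟩
  obtain ⟨φ, hφA, hφz, hφx, hφc⟩ := htor l hl
  obtain ⟨f, hf, hfe⟩ := (mem_autGroup_iff hES).mp hφA
  have hfz : f z = pw z l := by rw [show f z = f (zE : Ω) from rfl, hfe zE, hφz]; simp [pw, zE]
  have hfx : f xE = pw (xE : Ω) l⁻¹ := by rw [hfe xE, hφx]; simp [pw]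
  -- `f` normalises the image of `T`
  obtain ⟨-, -, hrec⟩ := IsSaturated_fullyNormalized hS hF hfn
  have hnphi : T ≤ nphi S E f := by
    intro g hg
    obtain ⟨i, hi⟩ := hEnT g hg
    refine mem_nphi.mpr ⟨hg.1, hg.2, a ^ ((i : ZMod p) * (l * l)).val, S.pow_mem haT.1 _, fun e he => ?_⟩
    have hg' : ∀ e ∈ E, cj g e = a ^ i * e * (a ^ i)⁻¹ := fun e he => by
      show g * e * g⁻¹ = _
      calc g * e * g⁻¹ = a ^ i * (((a ^ i)⁻¹ * g) * e * ((a ^ i)⁻¹ * g)⁻¹) * (a ^ i)⁻¹ := by group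
        _ = _ := by rw [hab _ hi _ he, mul_inv_cancel_right]
    rw [hg' e he]
    -- both sides are homomorphisms agreeing on `Z` and on `x`
    let b := a ^ ((i : ZMod p) * (l * l)).val
    let K : Subgroup Ω :=
      { carrier := {e | e ∈ E ∧ f (a ^ i * e * (a ^ i)⁻¹) = b * f e * b⁻¹}
        one_mem' := ⟨E.one_mem, by simp [hf.mor.map_one]⟩
        mul_mem' := fun {u v} hu hv => ⟨E.mul_mem hu.1 hv.1, by
          have hu' := hEn _ (T.pow_mem haT i) u hu.1
          have hv' := hEn _ (T.pow_mem haT i) v hv.1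
          rw [show a ^ i * (u * v) * (a ^ i)⁻¹ = (a ^ i * u * (a ^ i)⁻¹) * (a ^ i * v * (a ^ i)⁻¹) by group,
            hf.mor.map_mul hu' hv', hu.2, hv.2, hf.mor.map_mul hu.1 hv.1]
          group⟩
        inv_mem' := fun {u} hu => ⟨E.inv_mem hu.1, by
          have hu' := hEn _ (T.pow_mem haT i) u hu.1
          rw [show a ^ i * u⁻¹ * (a ^ i)⁻¹ = (a ^ i * u * (a ^ i)⁻¹)⁻¹ by group, hf.mor.map_inv hu', hu.2,
            hf.mor.map_inv hu.1]
          group⟩ }
    have hKE : K ≤ E := fun u hu => hu.1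
    haveI : Finite K := finite_of_le hKE
    have hZK : Z ≤ K := by
      intro v hv
      refine ⟨hZE hv, ?_⟩
      have hfv : f v ∈ Z := by
        -- `Z` is generated by `z` and `c`
        let Z' : Subgroup Ω :=
          { carrier := {v | v ∈ E ∧ v ∈ Z ∧ f v ∈ Z}
            one_mem' := ⟨E.one_mem, Z.one_mem, by simp [hf.mor.map_one]⟩
            mul_mem' := fun {u v} hu hv => ⟨E.mul_mem hu.1 hv.1, Z.mul_mem hu.2.1 hv.2.1, by
              rw [hf.mor.map_mul hu.1 hv.1]; exact Z.mul_mem hu.2.2 hv.2.2⟩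
            inv_mem' := fun {u} hu => ⟨E.inv_mem hu.1, Z.inv_mem hu.2.1, by
              rw [hf.mor.map_inv hu.1]; exact Z.inv_mem hu.2.2⟩ }
        have hle : Z' ≤ Z := fun u hu => hu.2.1
        haveI : Finite Z := finite_of_le hZE
        haveI : Finite Z' := finite_of_le hle
        have hz' : Subgroup.zpowers z ≤ Z' := Subgroup.zpowers_le.mpr ⟨hzE, hzZ, by rw [hfz]; exact pw_mem hzZ l⟩
        have hc' : (cE : Ω) ∈ Z' := ⟨cE.2, hcH, by rw [hfe cE, hφc]; exact hcH⟩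
        have hlt : Subgroup.zpowers z < Z' := lt_of_le_of_ne hz' fun e => by
          obtain ⟨j, hj⟩ := Subgroup.mem_zpowers_iff.mp (e.ge hc')
          exact hcz (Subgroup.mem_zpowers_iff.mpr ⟨j, Subtype.ext (by simpa [zE] using hj)⟩)
        have heq : Z' = Z := eq_of_le_of_card hle (by
          obtain ⟨j, hj⟩ := IsPGroup.iff_card.mp (hEA.to_le (fun u hu => hu.1 : Z' ≤ E))
          have h1 := card_lt_of_lt hlt
          rw [Nat.card_zpowers, orderOf_eq_prime (hexp z hzE) hz1, hj] at h1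
          rw [hZc, hj]
          refine Nat.pow_le_pow_right hp.out.pos ?_
          by_contra h2
          exact h1.not_ge ((Nat.pow_le_pow_right hp.out.pos (show j ≤ 1 by omega)).trans (pow_one p).le))
        exact (heq.ge hv).2.2
      rw [((show Commute a v from hfix v hv).pow_left i).eq, mul_inv_cancel_right,
        ((show Commute a (f v) from hfix _ hfv).pow_left ((i : ZMod p) * (l * l)).val).eq, mul_inv_cancel_right]
    have hxK : (xE : Ω) ∈ K := by
      refine ⟨xE.2, ?_⟩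
      rw [conj_gen haz (hexp z hzE) hα' i, hf.mor.map_mul xE.2 (pw_mem hzE _), mor_map_pw hf.mor hzE, hfz, hfx]
      show _ = a ^ ((i : ZMod p) * (l * l)).val * pw (xE : Ω) l⁻¹ * (a ^ ((i : ZMod p) * (l * l)).val)⁻¹
      set m := ((i : ZMod p) * (l * l)).val with hm
      rw [conj_pw, conj_gen haz (hexp z hzE) hα' m,
        mul_pw (show Commute (xE : Ω) (pw z ((_ : ZMod p))) from hab _ xE.2 _ (pw_mem hzE _)), hm, ZMod.natCast_zmod_val,
        ← pw_mul (hexp z hzE), ← pw_mul (hexp z hzE),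
        show (i : ZMod p) * (l * l) * α * l⁻¹ = l * ((i : ZMod p) * α) by field_simp]
    have hKtop : K = E := eq_of_le_of_card hKE (by
      obtain ⟨j, hj⟩ := IsPGroup.iff_card.mp (hEA.to_le hKE)
      have h1 := card_lt_of_lt (lt_of_le_of_ne hZK fun e => hxH (e.ge hxK))
      rw [hZc, hj, Nat.pow_lt_pow_iff_right hp.out.one_lt] at h1
      rw [hcard, hj]
      exact Nat.pow_le_pow_right hp.out.pos h1)
    exact (hKtop.ge he).2
  obtain ⟨f', hf', hff⟩ := (receptive_iff.mp hrec).2 E f hf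
  have hfT : Mor F T f' := hf'.restrict hnphi
  have hf'E : ∀ e ∈ E, f' e ∈ E := fun e he => by rw [hff e he]; exact hf.mapsTo he
  have hiso : Iso F f' T T := hfT.iso_of_card (fun g hg => hf.map_normalizer hfT hET hff hg hg.2) le_rfl
  refine ⟨f', hiso, hf'E, by rw [hff z hzE, hfz], by rw [hff xE xE.2, hfx], by rw [hff cE cE.2, hfe cE, hφc],
    fun g hg => ?_⟩
  -- the exponent on `T / E`
  obtain ⟨n, hn⟩ := hEnT (f' g) (hiso.mapsTo hg)
  obtain ⟨i, hi⟩ := hEnT g hg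
  have hgx : g * xE * g⁻¹ = xE * pw z ((i : ZMod p) * α) := by
    rw [← conj_gen haz (hexp z hzE) hα' i]
    calc g * (xE : Ω) * g⁻¹ = a ^ i * (((a ^ i)⁻¹ * g) * xE * ((a ^ i)⁻¹ * g)⁻¹) * (a ^ i)⁻¹ := by group
      _ = _ := by rw [hab _ hi _ xE.2, mul_inv_cancel_right]
  have hfgx : f' g * pw (xE : Ω) l⁻¹ * (f' g)⁻¹ = pw (xE : Ω) l⁻¹ * pw z ((n : ZMod p) * α * l⁻¹) := by
    calc f' g * pw (xE : Ω) l⁻¹ * (f' g)⁻¹
        = a ^ n * (((a ^ n)⁻¹ * f' g) * pw (xE : Ω) l⁻¹ * ((a ^ n)⁻¹ * f' g)⁻¹) * (a ^ n)⁻¹ := by group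
      _ = a ^ n * pw (xE : Ω) l⁻¹ * (a ^ n)⁻¹ := by rw [hab _ hn _ (pw_mem xE.2 _), mul_inv_cancel_right]
      _ = _ := by
        rw [conj_pw, conj_gen haz (hexp z hzE) hα' n,
          mul_pw (show Commute (xE : Ω) (pw z ((_ : ZMod p))) from hab _ xE.2 _ (pw_mem hzE _)), pw_mul (hexp z hzE) ((n : ZMod p) * α)]
  have hkey : (n : ZMod p) = (i : ZMod p) * (l * l) := by
    have h1 := congrArg f' hgx
    rw [hfT.map_conj hg (hET xE.2), hfT.map_mul (hET xE.2) (hET (pw_mem hzE _)),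
      mor_map_pw hfT (hET hzE), hff z hzE, hfz, hff xE xE.2, hfx, hfgx, mul_right_inj,
      ← pw_mul (hexp z hzE)] at h1
    have h2 := pw_inj (hexp z hzE) hz1 h1
    field_simp at h2
    linear_combination h2
  -- compare cosets of `E`
  haveI : (E.subgroupOf T).Normal := hρker ▸ inferInstance
  let q := QuotientGroup.mk' (E.subgroupOf T)
  have hq : ∀ (u : T) (m : ℕ), (a ^ m)⁻¹ * (u : Ω) ∈ E → q u = q ⟨a, haT⟩ ^ m := fun u m hm => by
    rw [← map_pow]
    refine ((QuotientGroup.eq).mpr ?_).symm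
    exact Subgroup.mem_subgroupOf.mpr hm
  have hap : q ⟨a, haT⟩ ^ p = 1 := by
    rw [← map_pow]
    refine (QuotientGroup.eq_one_iff _).mpr (Subgroup.mem_subgroupOf.mpr (hcE _ (S.pow_mem haT.1 p) fun e he => ?_))
    obtain ⟨γ, hγ⟩ := exists_pw (hexp z hzE) (hcom e he)
    have h5 := conj_gen (v := e) haz (hexp z hzE) (α := γ) (by rw [← hγ, mul_inv_cancel_left]) p
    simp [pw] at h5
    exact mul_inv_eq_iff_eq_mul.mp h5
  have hfin : q (⟨g, hg⟩ ^ (l * l).val) = q ⟨f' g, hiso.mapsTo hg⟩ := by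
    rw [map_pow, hq ⟨g, hg⟩ i hi, hq ⟨f' g, hiso.mapsTo hg⟩ n hn, ← pow_mul, pow_eq_pow_mod (i * _) hap,
      pow_eq_pow_mod n hap]
    congr 1
    have h7 : ((i * (l * l).val : ℕ) : ZMod p) = (n : ZMod p) := by
      rw [hkey]; push_cast; rw [ZMod.natCast_zmod_val]
    exact (ZMod.natCast_eq_natCast_iff' _ _ _).mp h7
  exact Subgroup.mem_subgroupOf.mp (QuotientGroup.eq.mp hfin)

end Cfsg.Agent.Fusion.RankThree
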