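/-
Tools for the normalizer chain above an essential subgroup of order p³.
-/
import Cfsg.Agent.Fusion.RankThree.Base
import Cfsg.Agent.Fusion.Group
import Cfsg.Agent.Fusion.EssentialShape
import Cfsg.Agent.Fusion.MaxClassBase
import Cfsg.Agent.FGS3.PGroupFrattini
set_option autoImplicit false

namespace Cfsg.Agent.Fusion.RankThree

open Cfsg Cfsg.FusionSystem
open scoped commutatorElement

variable {Ω : Type*} [Group Ω] {S : Subgroup Ω} {F : FusionSystem S} {p : ℕ} [hp : Fact p.Prime]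

/-- Normality of `L` in `K`, elementwise. -/
def Nrm (K L : Subgroup Ω) : Prop := ∀ k ∈ K, ∀ l ∈ L, k * l * k⁻¹ ∈ L

omit hp in
theorem Nrm.normal {K L : Subgroup Ω} (h : Nrm K L) : (L.subgroupOf K).Normal :=
  ⟨fun l hl k => Subgroup.mem_subgroupOf.mpr (h k k.2 l (Subgroup.mem_subgroupOf.mp hl))⟩

theorem exists_gen {K L : Subgroup Ω} [Finite K] (hLK : L ≤ K) (hn : Nrm K L)
    (hc : Nat.card K = p * Nat.card L) {v : Ω} (hv : v ∈ K) (hvL : v ∉ L) :
    ∀ y ∈ K, ∃ i : ℕ, (v ^ i)⁻¹ * y ∈ L := by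
  intro y hy
  haveI := hn.normal
  haveI : Finite L := finite_of_le hLK
  have hic : Nat.card (K ⧸ L.subgroupOf K) = p := by
    have h1 := Subgroup.card_eq_card_quotient_mul_card_subgroup (L.subgroupOf K)
    rw [Nat.card_congr (Subgroup.subgroupOfEquivOfLe hLK).toEquiv, hc] at h1
    exact (Nat.eq_of_mul_eq_mul_right Nat.card_pos h1).symm
  haveI : Fact (Nat.card (K ⧸ L.subgroupOf K)).Prime := ⟨hic ▸ hp.out⟩
  haveI : Finite (K ⧸ L.subgroupOf K) := Quotient.finite _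
  have htop : Subgroup.zpowers ((⟨v, hv⟩ : K) : K ⧸ L.subgroupOf K) = ⊤ :=
    (Subgroup.eq_bot_or_eq_top_of_prime_card _).resolve_left fun e =>
      hvL (Subgroup.mem_subgroupOf.mp ((QuotientGroup.eq_one_iff _).mp (Subgroup.zpowers_eq_bot.mp e)))
  obtain ⟨i, hi⟩ := ((isOfFinOrder_of_finite _).mem_powers_iff_mem_zpowers).mpr
    (htop.ge (Subgroup.mem_top ((⟨y, hy⟩ : K) : K ⧸ L.subgroupOf K)))
  simp only [← QuotientGroup.mk_pow] at hi
  exact ⟨i, Subgroup.mem_subgroupOf.mp (QuotientGroup.eq.mp hi)⟩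

theorem pow_prime_mem {K L : Subgroup Ω} [Finite K] (hLK : L ≤ K) (hn : Nrm K L)
    (hc : Nat.card K = p * Nat.card L) {v : Ω} (hv : v ∈ K) : v ^ p ∈ L := by
  haveI := hn.normal
  haveI : Finite L := finite_of_le hLK
  have hic : Nat.card (K ⧸ L.subgroupOf K) = p := by
    have h1 := Subgroup.card_eq_card_quotient_mul_card_subgroup (L.subgroupOf K)
    rw [Nat.card_congr (Subgroup.subgroupOfEquivOfLe hLK).toEquiv, hc] at h1
    exact (Nat.eq_of_mul_eq_mul_right Nat.card_pos h1).symm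
  have h2 : ((⟨v, hv⟩ : K) : K ⧸ L.subgroupOf K) ^ p = 1 := by rw [← hic]; exact pow_card_eq_one'
  rw [← QuotientGroup.mk_pow, QuotientGroup.eq_one_iff] at h2
  exact Subgroup.mem_subgroupOf.mp h2

theorem Ex.of_gen {K L : Subgroup Ω} {η : Ω → Ω} {e : ZMod p} (hn : Nrm K L) {v : Ω}
    (hv : v ∈ K) (hgen : ∀ y ∈ K, ∃ i : ℕ, (v ^ i)⁻¹ * y ∈ L) (hm : Mor F K η) (hηK : ∀ y ∈ K, η y ∈ K)
    (hηL : ∀ y ∈ L, η y ∈ L) (hve : (pw v e)⁻¹ * η v ∈ L) : Ex η K L e := by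
  intro y hy
  obtain ⟨i, hi⟩ := hgen y hy
  haveI := hn.normal
  let q := QuotientGroup.mk' (L.subgroupOf K)
  have hmul : η y = η v ^ i * η ((v ^ i)⁻¹ * y) := by
    rw [← hm.map_pow hv, ← hm.map_mul (K.pow_mem hv i) (K.mul_mem (K.inv_mem (K.pow_mem hv i)) hy), mul_inv_cancel_left]
  have e1 : q ⟨y, hy⟩ = q ⟨v, hv⟩ ^ i := by
    rw [← map_pow]; exact (QuotientGroup.eq.mpr (Subgroup.mem_subgroupOf.mpr hi)).symm
  have e2 : q ⟨η v, hηK v hv⟩ = q ⟨v, hv⟩ ^ e.val := by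
    rw [← map_pow]; exact (QuotientGroup.eq.mpr (Subgroup.mem_subgroupOf.mpr hve)).symm
  have e3 : q ⟨η y, hηK y hy⟩ = q ⟨η v, hηK v hv⟩ ^ i := by
    rw [← map_pow]
    refine (QuotientGroup.eq.mpr (Subgroup.mem_subgroupOf.mpr ?_)).symm
    show (η v ^ i)⁻¹ * η y ∈ L
    rw [hmul, inv_mul_cancel_left]
    exact hηL _ hi
  have e4 : q ⟨η y, hηK y hy⟩ = q (⟨y, hy⟩ ^ e.val) := by
    rw [map_pow, e1, e3, e2, ← pow_mul, ← pow_mul, mul_comm]
  exact Subgroup.mem_subgroupOf.mp (QuotientGroup.eq.mp e4.symm)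

theorem comm_image {B B' : Subgroup Ω} {g : Ω → Ω} (hg : Mor F B g) (hm : ∀ b ∈ B, g b ∈ B') :
    ∀ x ∈ ⁅B, B⁆, g x ∈ ⁅B', B'⁆ := by
  intro x hx
  suffices h : x ∈ B ∧ g x ∈ ⁅B', B'⁆ from h.2
  rw [Subgroup.commutator_def] at hx
  induction hx using Subgroup.closure_induction with
  | mem y hy =>
    obtain ⟨a, ha, b, hb, rfl⟩ := hy
    refine ⟨B.mul_mem (B.mul_mem (B.mul_mem ha hb) (B.inv_mem ha)) (B.inv_mem hb), ?_⟩
    rw [commutatorElement_def, hg.map_mul (B.mul_mem (B.mul_mem ha hb) (B.inv_mem ha)) (B.inv_mem hb),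
      hg.map_mul (B.mul_mem ha hb) (B.inv_mem ha), hg.map_mul ha hb, hg.map_inv ha, hg.map_inv hb,
      ← commutatorElement_def]
    exact Subgroup.commutator_mem_commutator (hm a ha) (hm b hb)
  | one => exact ⟨B.one_mem, by rw [hg.map_one]; exact one_mem _⟩
  | mul u v _ _ hu hv => exact ⟨B.mul_mem hu.1 hv.1, by rw [hg.map_mul hu.1 hv.1]; exact mul_mem hu.2 hv.2⟩
  | inv u _ hu => exact ⟨B.inv_mem hu.1, by rw [hg.map_inv hu.1]; exact inv_mem hu.2⟩

/-- Automorphisms of `B` trivial on the section `K / L`. -/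
def triv {B : Subgroup Ω} [Finite B] (K L : Subgroup Ω) : Subgroup (MulAut B) :=
  haveI := finite_mulAut (G := B)
  let M : Submonoid (MulAut B) :=
    { carrier := {α | ∀ b : B, (b : Ω) ∈ K → ((α b : B) : Ω) ∈ K ∧ (b : Ω)⁻¹ * ((α b : B) : Ω) ∈ L}
      one_mem' := fun b hb => ⟨by simpa using hb, by simp⟩
      mul_mem' := fun {u v} hu hv b hb => by
        obtain ⟨h1, h2⟩ := hv b hb
        obtain ⟨h3, h4⟩ := hu (v b) h1
        refine ⟨h3, ?_⟩
        have := L.mul_mem h2 h4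
        simpa [mul_assoc] using this }
  { M with
    inv_mem' := fun {u} hu => by
      have h := (isOfFinOrder_of_finite u).mem_powers_iff_mem_zpowers.mpr (inv_mem (Subgroup.mem_zpowers u))
      exact Submonoid.powers_le.mpr hu h }

/-- Induced automorphisms are trivial on small invariant sections. -/
theorem mem_triv [Finite S] (hS : IsPGroup p S) {B K L : Subgroup Ω} [Finite B] (hLK : L ≤ K) (hKB : K ≤ B)
    (hK : ∀ g ∈ normalizerIn S B, ∀ k ∈ K, g * k * g⁻¹ ∈ K)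
    (hL : ∀ g ∈ normalizerIn S B, ∀ k ∈ L, g * k * g⁻¹ ∈ L)
    (hc : Nat.card K ≤ p * Nat.card L) : autInducedBy S B ≤ triv K L := by
  intro α hα b hb
  rw [← range_actHom] at hα
  obtain ⟨⟨g, hg⟩, rfl⟩ := hα
  obtain ⟨k, hk⟩ := isPGroup_autInducedBy hS B ⟨_, (range_actHom S B).le ⟨⟨g, hg⟩, rfl⟩⟩
  refine ⟨hK g hg b hb, ?_⟩
  have h := EssShape.fix_small (congrArg Subtype.val hk)
    (N := L.subgroupOf B) (M := K.subgroupOf B) (fun u hu => hLK hu) (fun u hu => hL g hg u hu)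
    (fun u hu => hK g hg u hu)
    (by rwa [Nat.card_congr (Subgroup.subgroupOfEquivOfLe hKB).toEquiv,
      Nat.card_congr (Subgroup.subgroupOfEquivOfLe (hLK.trans hKB)).toEquiv]) b hb
  exact h

/-- There are at most `p + 1` subgroups between `M` and `B` of index `p` over `M`. -/
theorem card_middle {B M : Subgroup Ω} [Finite B] (hB : IsPGroup p B) (hMB : M ≤ B)
    (hc : Nat.card B = p ^ 2 * Nat.card M) :
    Nat.card {X : Subgroup Ω // M ≤ X ∧ X ≤ B ∧ Nat.card X = p * Nat.card M} ≤ p + 1 := by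
  classical
  haveI : Finite M := finite_of_le hMB
  set 𝒳 := {X : Subgroup Ω // M ≤ X ∧ X ≤ B ∧ Nat.card X = p * Nat.card M}
  haveI : Finite 𝒳 := Finite.of_injective (fun X : 𝒳 => X.1.subgroupOf B) fun X Y e => Subtype.ext (by
    rw [← Subgroup.map_subgroupOf_eq_of_le X.2.2.1, ← Subgroup.map_subgroupOf_eq_of_le Y.2.2.1]
    exact congrArg (Subgroup.map B.subtype) e)
  let f : (Σ X : 𝒳, {u : X.1 // (u : Ω) ∉ M}) → {u : B // (u : Ω) ∉ M} := fun q => ⟨⟨(q.2.1 : Ω), q.1.2.2.1 q.2.1.2⟩, q.2.2⟩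
  have hf : Function.Injective f := by
    rintro ⟨X, u, hu⟩ ⟨Y, v, hv⟩ e
    have e' : (u : Ω) = v := congrArg (fun w : {u : B // (u : Ω) ∉ M} => (w.1 : Ω)) e
    have hXY : X = Y := by
      haveI : Finite X.1 := finite_of_le X.2.2.1
      haveI : Finite Y.1 := finite_of_le Y.2.2.1
      have hlt : M < X.1 ⊓ Y.1 := lt_of_le_of_ne (le_inf X.2.1 Y.2.1) fun h =>
        hu (h.ge ⟨u.2, e' ▸ v.2⟩)
      haveI : Finite ↥(X.1 ⊓ Y.1) := finite_of_le (inf_le_left.trans X.2.2.1)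
      have h1 := card_lt_of_lt hlt
      obtain ⟨i, hi⟩ := IsPGroup.iff_card.mp (hB.to_le (inf_le_left.trans X.2.2.1 : X.1 ⊓ Y.1 ≤ B))
      obtain ⟨j, hj⟩ := IsPGroup.iff_card.mp (hB.to_le hMB)
      rw [hi, hj, Nat.pow_lt_pow_iff_right hp.out.one_lt] at h1
      have h2 : p * Nat.card M ≤ Nat.card ↥(X.1 ⊓ Y.1) := by
        rw [hi, hj, ← pow_succ']; exact Nat.pow_le_pow_right hp.out.pos h1
      exact Subtype.ext ((eq_of_le_of_card inf_le_left (X.2.2.2.le.trans h2)).symm.trans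
        (eq_of_le_of_card inf_le_right (Y.2.2.2.le.trans h2)))
    subst hXY
    obtain rfl : u = v := Subtype.ext e'
    rfl
  have hcount : ∀ (K : Subgroup Ω) [Finite K], M ≤ K → Nat.card {u : K // (u : Ω) ∉ M} = Nat.card K - Nat.card M := by
    intro K _ hMK
    haveI := Fintype.ofFinite K
    rw [Nat.card_eq_fintype_card, Fintype.card_subtype_compl, ← Nat.card_eq_fintype_card, ← Nat.card_eq_fintype_card]
    congr 1
    exact Nat.card_congr
      { toFun := fun u => ⟨(u.1 : Ω), u.2⟩, invFun := fun m => ⟨⟨(m : Ω), hMK m.2⟩, m.2⟩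
        left_inv := fun _ => rfl, right_inv := fun _ => rfl }
  haveI := Fintype.ofFinite 𝒳
  haveI : ∀ X : 𝒳, Finite X.1 := fun X => finite_of_le X.2.2.1
  have h1 := Nat.card_le_card_of_injective f hf
  rw [Nat.card_sigma, hcount B hMB, Finset.sum_congr rfl fun (X : 𝒳) _ => (hcount X.1 X.2.1).trans
    (by rw [X.2.2.2]), Finset.sum_const, smul_eq_mul, Finset.card_univ, ← Nat.card_eq_fintype_card, hc] at h1
  obtain ⟨r, hr⟩ : ∃ r, p = r + 1 := ⟨p - 1, by have := hp.out.two_le; omega⟩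
  have e1 : p * Nat.card M - Nat.card M = r * Nat.card M := by
    rw [hr]; exact Nat.sub_eq_of_eq_add (by ring)
  have e2 : p ^ 2 * Nat.card M - Nat.card M = (p + 1) * (r * Nat.card M) := by
    rw [hr]; exact Nat.sub_eq_of_eq_add (by ring)
  rw [e1, e2] at h1
  exact Nat.le_of_mul_le_mul_right h1 (Nat.mul_pos (by have := hp.out.two_le; omega) Nat.card_pos)

/-- `A` has at most `p + 1` images under the normalizer of `B`. -/
theorem normalizer_bound [Finite S] (hS : IsPGroup p S) {B A M : Subgroup Ω} (hBS : B ≤ S) (hMA : M ≤ A)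
    (hAB : A ≤ B) (hAc : Nat.card A = p * Nat.card M) (hBc : Nat.card B = p ^ 2 * Nat.card M)
    (hM : ∀ g ∈ normalizerIn S B, ∀ m ∈ M, g * m * g⁻¹ ∈ M)
    (hNA : Nat.card (normalizerIn S A) ≤ Nat.card B) :
    Nat.card (normalizerIn S B) ≤ p * Nat.card B := by
  classical
  haveI : Finite B := finite_of_le hBS
  haveI : Finite (normalizerIn S B) := finite_of_le normalizerIn_le
  set N := normalizerIn S B
  set 𝒳 := {X : Subgroup Ω // M ≤ X ∧ X ≤ B ∧ Nat.card X = p * Nat.card M}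
  let Φ : N → 𝒳 := fun g => ⟨A.map (MulAut.conj (g : Ω)).toMonoidHom, fun m hm => ⟨(g : Ω)⁻¹ * m * g, hMA (by
      simpa using hM _ (inv_mem g.2) m hm), by simp [mul_assoc]⟩, by
    rintro _ ⟨a, ha, rfl⟩; exact (cj_mem_iff g.2.2 a).mpr (hAB ha),
    (Subgroup.card_map_of_injective (MulAut.conj (g : Ω)).injective).trans hAc⟩
  haveI : Finite 𝒳 := Finite.of_injective (fun X : 𝒳 => X.1.subgroupOf B) fun X Y e => Subtype.ext (by
    rw [← Subgroup.map_subgroupOf_eq_of_le X.2.2.1, ← Subgroup.map_subgroupOf_eq_of_le Y.2.2.1]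
    exact congrArg (Subgroup.map B.subtype) e)
  haveI : Finite (normalizerIn S A) := finite_of_le normalizerIn_le
  have hstab : ∀ g h : N, Φ g = Φ h → ((g⁻¹ * h : N) : Ω) ∈ normalizerIn S A := by
    intro g h e
    refine ⟨(g⁻¹ * h : N).2.1, ?_⟩
    haveI : Finite A := finite_of_le (hAB.trans hBS)
    refine Subgroup.mem_normalizer_fintype fun a ha => ?_
    have e1 : (h : Ω) * a * (h : Ω)⁻¹ ∈ (Φ g).1 := by rw [e]; exact ⟨a, ha, rfl⟩
    obtain ⟨b, hb, hb'⟩ := e1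
    have hb'' : b = ((g⁻¹ * h : N) : Ω) * a * ((g⁻¹ * h : N) : Ω)⁻¹ := by
      have h3 : (g : Ω) * b * (g : Ω)⁻¹ = (h : Ω) * a * (h : Ω)⁻¹ := hb'
      calc b = (g : Ω)⁻¹ * ((g : Ω) * b * (g : Ω)⁻¹) * g := by group
        _ = _ := by rw [h3]; push_cast; group
    exact hb'' ▸ hb
  let s : N → 𝒳 × normalizerIn S A := fun g =>
    (Φ g, ⟨_, hstab (Function.invFun Φ (Φ g)) g (Function.invFun_eq ⟨g, rfl⟩)⟩)
  have hs : Function.Injective s := fun g g' e => by
    have e1 : Φ g = Φ g' := congrArg Prod.fst e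
    have e2 := congrArg (fun q : 𝒳 × normalizerIn S A => (q.2 : Ω)) e
    simp only [s, e1] at e2
    exact Subtype.ext (mul_left_cancel e2)
  have h1 := Nat.card_le_card_of_injective s hs
  rw [Nat.card_prod] at h1
  have h2 : Nat.card N ≤ (p + 1) * Nat.card B :=
    h1.trans (Nat.mul_le_mul (card_middle (hS.to_le hBS) (hMA.trans hAB) hBc) hNA)
  obtain ⟨i, hi⟩ := IsPGroup.iff_card.mp (hS.to_le (normalizerIn_le : N ≤ S))
  obtain ⟨j, hj⟩ := IsPGroup.iff_card.mp (hS.to_le hBS)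
  rw [hi, hj] at h2 ⊢
  rw [← pow_succ']
  refine Nat.pow_le_pow_right hp.out.pos ?_
  by_contra hlt
  have h3 := (Nat.pow_le_pow_right hp.out.pos (show j + 2 ≤ i by omega)).trans h2
  rw [pow_add, mul_comm] at h3
  have h4 := Nat.le_of_mul_le_mul_right h3 (pow_pos hp.out.pos j)
  have := hp.out.two_le
  nlinarith

/-- Every middle subgroup is the fixed one or an image of `A`. -/
theorem middle_cases [Finite S] (hS : IsPGroup p S) {B A M L : Subgroup Ω} (hBS : B ≤ S) (hMA : M ≤ A)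
    (hAB : A ≤ B) (hAc : Nat.card A = p * Nat.card M) (hBc : Nat.card B = p ^ 2 * Nat.card M)
    (hM : ∀ g ∈ normalizerIn S B, ∀ m ∈ M, g * m * g⁻¹ ∈ M)
    (hL : M ≤ L ∧ L ≤ B ∧ Nat.card L = p * Nat.card M) (hLN : Nrm (normalizerIn S B) L) (hAL : A ≠ L)
    (hNc : p * Nat.card B ≤ Nat.card (normalizerIn S B)) (hNA : Nat.card (normalizerIn S A) ≤ Nat.card B)
    {X : Subgroup Ω} (hX : M ≤ X ∧ X ≤ B ∧ Nat.card X = p * Nat.card M) :
    X = L ∨ ∃ g ∈ normalizerIn S B, X = A.map (MulAut.conj g).toMonoidHom := by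
  classical
  haveI : Finite B := finite_of_le hBS
  haveI : Finite (normalizerIn S B) := finite_of_le normalizerIn_le
  by_contra hno
  push Not at hno
  set N := normalizerIn S B
  set 𝒳 := {X : Subgroup Ω // M ≤ X ∧ X ≤ B ∧ Nat.card X = p * Nat.card M}
  haveI : Finite 𝒳 := Finite.of_injective (fun X : 𝒳 => X.1.subgroupOf B) fun X Y e => Subtype.ext (by
    rw [← Subgroup.map_subgroupOf_eq_of_le X.2.2.1, ← Subgroup.map_subgroupOf_eq_of_le Y.2.2.1]
    exact congrArg (Subgroup.map B.subtype) e)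
  let Φ : N → 𝒳 := fun g => ⟨A.map (MulAut.conj (g : Ω)).toMonoidHom, fun m hm => ⟨(g : Ω)⁻¹ * m * g, hMA (by
      simpa using hM _ (inv_mem g.2) m hm), by simp [mul_assoc]⟩, by
    rintro _ ⟨a, ha, rfl⟩; exact (cj_mem_iff g.2.2 a).mpr (hAB ha),
    (Subgroup.card_map_of_injective (MulAut.conj (g : Ω)).injective).trans hAc⟩
  have hne : ∀ g : N, Φ g ≠ ⟨L, hL⟩ ∧ Φ g ≠ ⟨X, hX⟩ := by
    refine fun g => ⟨fun e => hAL ?_, fun e => hno.2 g g.2 (congrArg Subtype.val e).symm⟩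
    have e' : A.map (MulAut.conj (g : Ω)).toMonoidHom = L := congrArg Subtype.val e
    haveI : Finite L := finite_of_le hL.2.1
    refine eq_of_le_of_card (fun a ha => ?_) (le_of_eq (hL.2.2.trans hAc.symm))
    have h1 : (g : Ω) * a * (g : Ω)⁻¹ ∈ L := e' ▸ ⟨a, ha, rfl⟩
    simpa [mul_assoc] using hLN _ (inv_mem g.2) _ h1
  -- the range has at most `p - 1` elements
  haveI := Fintype.ofFinite 𝒳
  haveI := Fintype.ofFinite N
  have hr : Nat.card (Set.range Φ) + 2 ≤ p + 1 := by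
    refine le_trans ?_ (card_middle (hS.to_le hBS) (hMA.trans hAB) hBc)
    have hXL : (⟨X, hX⟩ : 𝒳) ≠ ⟨L, hL⟩ := fun e => hno.1 (congrArg Subtype.val e)
    let F2 : Finset 𝒳 := {⟨X, hX⟩, ⟨L, hL⟩}
    have hdis : Disjoint (Set.range Φ).toFinset F2 := by
      rw [Finset.disjoint_left]
      intro Y hY hY'
      rw [Set.mem_toFinset] at hY
      obtain ⟨g, rfl⟩ := hY
      simp only [F2, Finset.mem_insert, Finset.mem_singleton] at hY'
      rcases hY' with e | e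
      · exact (hne g).2 e
      · exact (hne g).1 e
    have := Finset.card_le_univ ((Set.range Φ).toFinset ∪ F2)
    rw [Finset.card_union_of_disjoint hdis, show F2.card = 2 from Finset.card_pair hXL] at this
    rw [Nat.card_eq_fintype_card (α := Set.range Φ), Nat.card_eq_fintype_card (α := 𝒳)]
    rwa [Set.toFinset_card] at this
  haveI : Finite (normalizerIn S A) := finite_of_le normalizerIn_le
  have hstab : ∀ g h : N, Φ g = Φ h → ((g⁻¹ * h : N) : Ω) ∈ normalizerIn S A := by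
    intro g h e
    refine ⟨(g⁻¹ * h : N).2.1, ?_⟩
    haveI : Finite A := finite_of_le (hAB.trans hBS)
    refine Subgroup.mem_normalizer_fintype fun a ha => ?_
    have e1 : (h : Ω) * a * (h : Ω)⁻¹ ∈ (Φ g).1 := by rw [e]; exact ⟨a, ha, rfl⟩
    obtain ⟨b, hb, hb'⟩ := e1
    have hb'' : b = ((g⁻¹ * h : N) : Ω) * a * ((g⁻¹ * h : N) : Ω)⁻¹ := by
      have h3 : (g : Ω) * b * (g : Ω)⁻¹ = (h : Ω) * a * (h : Ω)⁻¹ := hb'
      calc b = (g : Ω)⁻¹ * ((g : Ω) * b * (g : Ω)⁻¹) * g := by group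
        _ = _ := by rw [h3]; push_cast; group
    exact hb'' ▸ hb
  let s : N → Set.range Φ × normalizerIn S A := fun g =>
    (⟨Φ g, g, rfl⟩, ⟨_, hstab (Function.invFun Φ (Φ g)) g (Function.invFun_eq ⟨g, rfl⟩)⟩)
  have hs : Function.Injective s := fun g g' e => by
    have e1 : Φ g = Φ g' := congrArg (fun q : Set.range Φ × normalizerIn S A => (q.1 : 𝒳)) e
    have e2 := congrArg (fun q : Set.range Φ × normalizerIn S A => (q.2 : Ω)) e
    simp only [s, e1] at e2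
    exact Subtype.ext (mul_left_cancel e2)
  have h1 := Nat.card_le_card_of_injective s hs
  rw [Nat.card_prod] at h1
  have h2 := hNc.trans (h1.trans (Nat.mul_le_mul le_rfl hNA))
  have := Nat.le_of_mul_le_mul_right h2 Nat.card_pos
  omega

end Cfsg.Agent.Fusion.RankThree
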