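/-
One level of the normalizer chain above an essential subgroup of order p³.
-/
import Cfsg.Agent.Fusion.RankThree.Tools
import Cfsg.Agent.Fusion.MaxClassEssential
set_option autoImplicit false

namespace Cfsg.Agent.Fusion.RankThree

open Cfsg Cfsg.FusionSystem
open scoped commutatorElement

variable {Ω : Type*} [Group Ω] {S : Subgroup Ω} {F : FusionSystem S} {p : ℕ} [hp : Fact p.Prime]

/-- No image of `A` has normalizer of order beyond `p ^ k`. -/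
def NBound (F : FusionSystem S) (p : ℕ) (A : Subgroup Ω) (k : ℕ) : Prop :=
  ∀ (A' : Subgroup Ω) (g : Ω → Ω), Iso F g A A' → Nat.card (normalizerIn S A') ≤ p ^ k

/-- Level `i` of the chain. -/
structure Lev (F : FusionSystem S) (p i : ℕ) (l : ZMod p) (B A M E T Z : Subgroup Ω) (z x : Ω)
    (η : Ω → Ω) : Prop where
  dat : Datum F p E T Z z x
  one_le : 1 ≤ i
  chain : ∃ f : ℕ → Subgroup Ω, f 0 = E ∧ f 1 = T ∧ f i = B ∧ f (i - 1) = A ∧
    (∀ k, k ≤ i → Nat.card (f k) = p ^ (3 + k)) ∧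
    ∀ k, k < i → f k ≤ f (k + 1) ∧ Nrm (f (k + 1)) (f k) ∧ NBound F p (f k) (4 + k)
  iso : Iso F η B B
  MA : M ≤ A
  cardM : Nat.card M = p ^ (1 + i)
  ZM : Z ≤ M
  commM : ⁅B, B⁆ ≤ M
  Mle : M ≤ ⁅B, B⁆ ⊔ Z
  xM : x ∉ M
  cent : ∀ e ∈ Z, ∀ b ∈ B, b * e = e * b
  ηA : ∀ a ∈ A, η a ∈ A
  ηz : η z = pw z l
  exA : Ex η A M l⁻¹
  exB : Ex η B A (l ^ (i + 1))
  exZ : Ex η Z (Subgroup.zpowers z) (1 : ZMod p)

variable {i : ℕ} {l : ZMod p} {B A M E T Z : Subgroup Ω} {z x : Ω} {η : Ω → Ω}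

theorem Lev.chain_le (h : Lev F p i l B A M E T Z z x η) :
    ∃ f : ℕ → Subgroup Ω, f 0 = E ∧ f 1 = T ∧ f i = B ∧ f (i - 1) = A ∧ ∀ k m, k ≤ m → m ≤ i → f k ≤ f m := by
  obtain ⟨f, h0, h1, hi, hi1, -, hf⟩ := h.chain
  refine ⟨f, h0, h1, hi, hi1, fun k m hkm => ?_⟩
  induction m, hkm using Nat.le_induction with
  | base => exact fun _ => le_rfl
  | succ m hkm ih => exact fun hm => (ih (by omega)).trans (hf m (by omega)).1

theorem Lev.EA (h : Lev F p i l B A M E T Z z x η) : E ≤ A := by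
  obtain ⟨f, h0, -, -, hi1, hf⟩ := h.chain_le
  exact h0 ▸ hi1 ▸ hf 0 (i - 1) (by omega) (by omega)

theorem Lev.TB (h : Lev F p i l B A M E T Z z x η) : T ≤ B := by
  obtain ⟨f, -, h1, hi, -, hf⟩ := h.chain_le
  exact h1 ▸ hi ▸ hf 1 i h.one_le le_rfl

theorem Lev.AB (h : Lev F p i l B A M E T Z z x η) : A ≤ B := by
  obtain ⟨f, -, -, hi, hi1, hf⟩ := h.chain_le
  exact hi1 ▸ hi ▸ hf (i - 1) i (by omega) le_rfl

theorem Lev.BS (h : Lev F p i l B A M E T Z z x η) : B ≤ S := h.iso.dom_le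

theorem Lev.cardA (h : Lev F p i l B A M E T Z z x η) : Nat.card A = p * Nat.card M := by
  obtain ⟨f, -, -, -, hi1, hc, -⟩ := h.chain
  rw [← hi1, hc _ (by omega), h.cardM, ← pow_succ']
  congr 1
  have := h.one_le
  omega

theorem Lev.cardB (h : Lev F p i l B A M E T Z z x η) : Nat.card B = p ^ (3 + i) := by
  obtain ⟨f, -, -, hi, -, hc, -⟩ := h.chain
  rw [← hi, hc _ le_rfl]

theorem Lev.cardB' (h : Lev F p i l B A M E T Z z x η) : Nat.card B = p ^ 2 * Nat.card M := by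
  rw [h.cardB, h.cardM, ← pow_add]; congr 1; omega

theorem Lev.nrmA (h : Lev F p i l B A M E T Z z x η) : Nrm B A := by
  obtain ⟨f, -, -, hi, hi1, -, hf⟩ := h.chain
  have := (hf (i - 1) (by have := h.one_le; omega)).2.1
  rwa [show i - 1 + 1 = i by have := h.one_le; omega, hi, hi1] at this

theorem Lev.boundA (h : Lev F p i l B A M E T Z z x η) : NBound F p A (3 + i) := by
  obtain ⟨f, -, -, -, hi1, -, hf⟩ := h.chain
  have := (hf (i - 1) (by have := h.one_le; omega)).2.2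
  rwa [hi1, show 4 + (i - 1) = 3 + i by have := h.one_le; omega] at this

theorem Lev.normA (h : Lev F p i l B A M E T Z z x η) [Finite S] :
    normalizerIn S A = B := by
  haveI := finite_of_le (normalizerIn_le : normalizerIn S A ≤ S)
  haveI := finite_of_le h.BS
  haveI := finite_of_le (h.AB.trans h.BS)
  have hle : B ≤ normalizerIn S A := fun b hb =>
    ⟨h.BS hb, Subgroup.mem_normalizer_fintype fun a ha => h.nrmA b hb a ha⟩
  refine (eq_of_le_of_card hle ?_).symm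
  rw [h.cardB]
  exact h.boundA A id (Iso.refl (h.AB.trans h.BS))

theorem Lev.xA (h : Lev F p i l B A M E T Z z x η) : x ∈ A := h.EA h.dat.xE

theorem Lev.MB (h : Lev F p i l B A M E T Z z x η) : M ≤ B := h.MA.trans h.AB

theorem Lev.zM (h : Lev F p i l B A M E T Z z x η) : z ∈ M := h.ZM h.dat.zZ

theorem Lev.center_mem (h : Lev F p i l B A M E T Z z x η) {e : Ω} (he : e ∈ B)
    (hc : ∀ b ∈ B, b * e = e * b) : e ∈ Z := by
  have hET : E ≤ T := by rw [h.dat.nrm]; exact le_normalizerIn h.dat.centric.1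
  have heE : e ∈ E := h.dat.centric.2 E (isConj_refl h.dat.centric.1)
    ⟨h.BS he, fun v hv => hc v (h.TB (hET hv))⟩
  exact h.dat.cent_eq e (hET heE) fun a ha => hc a (h.TB ha)

theorem Lev.Zchar (h : Lev F p i l B A M E T Z z x η) {g : Ω → Ω} (hg : Iso F g B B) :
    ∀ e ∈ Z, g e ∈ Z := by
  intro e he
  have heB : e ∈ B := h.MB (h.ZM he)
  refine h.center_mem (hg.mapsTo heB) fun b hb => ?_
  obtain ⟨u, hu, rfl⟩ := hg.surj hb
  rw [← hg.mor.map_mul hu heB, ← hg.mor.map_mul heB hu, h.cent e he u hu]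

theorem Lev.Mchar (h : Lev F p i l B A M E T Z z x η) {g : Ω → Ω} (hg : Iso F g B B) :
    ∀ m ∈ M, g m ∈ M := by
  intro m hm
  have hle : ⁅B, B⁆ ⊔ Z ≤ B := sup_le (h.commM.trans h.MB) (h.ZM.trans h.MB)
  exact (hg.mor.restrict hle).map_sup (fun u hu => h.commM (comm_image hg.mor (fun b hb => hg.mapsTo hb) u hu))
    (fun u hu => h.ZM (h.Zchar hg u hu)) m (h.Mle hm)

theorem Lev.normM (h : Lev F p i l B A M E T Z z x η) : ∀ g ∈ normalizerIn S B, ∀ m ∈ M, g * m * g⁻¹ ∈ M :=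
  fun _ hg => h.Mchar (Iso.conj_self h.BS hg.1 hg.2)

theorem Lev.normZ (h : Lev F p i l B A M E T Z z x η) : ∀ g ∈ normalizerIn S B, ∀ m ∈ Z, g * m * g⁻¹ ∈ Z :=
  fun _ hg => h.Zchar (Iso.conj_self h.BS hg.1 hg.2)

theorem isCentric_conj {E E' : Subgroup Ω} (hE : F.IsCentric E) (h : F.IsConj E E') : F.IsCentric E' := by
  obtain ⟨f, hf⟩ := isConj_iff.mp h
  exact ⟨hf.cod_le, fun Q hQ => hE.2 Q (isConj_trans h hQ)⟩

/-- Transport of a level along an isomorphism of the system. -/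
theorem Lev.transport (h : Lev F p i l B A M E T Z z x η) [Finite S] (hS : IsPGroup p S) {φ : Ω → Ω}
    {B' : Subgroup Ω} (hφ : Iso F φ B B') :
    ∃ A' M' E' T' Z' η', Lev F p i l B' A' M' E' T' Z' (φ z) (φ x) η' ∧
      (∀ v, v ∈ A' ↔ ∃ a ∈ A, φ a = v) ∧ (∀ v, v ∈ Z' ↔ ∃ a ∈ Z, φ a = v) ∧ ∀ b ∈ B, η' (φ b) = φ (η b) := by
  obtain ⟨g, hg, hgf, hfg⟩ := hφ.exists_symm
  obtain ⟨f, h0, h1, hi, hi1, hcard, hf⟩ := h.chain
  obtain ⟨f', h0', h1', hi', hi1', hf'⟩ := h.chain_le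
  have hTB := h.TB
  have hEB : E ≤ B := h.EA.trans h.AB
  have hZB : Z ≤ B := h.ZM.trans h.MB
  -- the image of a subgroup of `B`
  let im : ∀ K, K ≤ B → Subgroup Ω := fun K hK => (hφ.mor.restrict hK).img
  have mim : ∀ {K} (hK : K ≤ B) {v}, v ∈ im K hK ↔ ∃ u ∈ K, φ u = v := fun hK => (hφ.mor.restrict hK).mem_img
  have isoim : ∀ {K} (hK : K ≤ B), Iso F φ K (im K hK) := fun hK => (hφ.mor.restrict hK).toIso
  have cim : ∀ {K} (hK : K ≤ B), Nat.card (im K hK) = Nat.card K := fun hK => (isoim hK).card_eq.symm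
  have mono : ∀ {K L} (hK : K ≤ B) (hL : L ≤ B), K ≤ L → im K hK ≤ im L hL := fun hK hL hKL v hv => by
    obtain ⟨u, hu, rfl⟩ := (mim hK).mp hv
    exact (mim hL).mpr ⟨u, hKL hu, rfl⟩
  have nim : ∀ {K L} (hK : K ≤ B) (hL : L ≤ B), Nrm K L → Nrm (im K hK) (im L hL) := by
    intro K L hK hL hn k hk v hv
    obtain ⟨a, ha, rfl⟩ := (mim hK).mp hk
    obtain ⟨b, hb, rfl⟩ := (mim hL).mp hv
    exact (mim hL).mpr ⟨_, hn a ha b hb, hφ.mor.map_conj (hK ha) (hL hb)⟩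
  have bim : ∀ {K} (hK : K ≤ B) {k}, NBound F p K k → NBound F p (im K hK) k := fun hK k hb A' u hu =>
    hb A' _ ((isoim hK).comp hu)
  have hzero : ∀ {v}, v ∈ B → φ v = 1 → v = 1 := fun hv e =>
    hφ.mor.injOn hv B.one_mem (e.trans hφ.mor.map_one.symm)
  have hφpw : ∀ {v}, v ∈ B → ∀ a : ZMod p, φ (pw v a) = pw (φ v) a := fun hv a => mor_map_pw hφ.mor hv a
  let η' := fun v => φ (η (g v))
  have hη' : ∀ b ∈ B, η' (φ b) = φ (η b) := fun b hb => by show φ (η (g (φ b))) = _; rw [hgf b hb]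
  have exim : ∀ {K L} (hK : K ≤ B) (hL : L ≤ B) {e : ZMod p}, Ex η K L e → Ex η' (im K hK) (im L hL) e := by
    intro K L hK hL e hex v hv
    obtain ⟨u, hu, rfl⟩ := (mim hK).mp hv
    refine (mim hL).mpr ⟨_, hex u hu, ?_⟩
    rw [hη' u (hK hu), hφ.mor.map_mul (B.inv_mem (pw_mem (hK hu) _)) (h.iso.mapsTo (hK hu)),
      hφ.mor.map_inv (pw_mem (hK hu) _), hφpw (hK hu)]
  have hzB : z ∈ B := hZB h.dat.zZ
  have hxB : x ∈ B := hEB h.dat.xE
  have hzz : Subgroup.zpowers z ≤ B := Subgroup.zpowers_le.mpr hzB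
  have hzim : Subgroup.zpowers (φ z) = im (Subgroup.zpowers z) hzz := by
    apply le_antisymm
    · exact Subgroup.zpowers_le.mpr ((mim hzz).mpr ⟨z, Subgroup.mem_zpowers z, rfl⟩)
    · intro v hv
      obtain ⟨u, hu, rfl⟩ := (mim hzz).mp hv
      obtain ⟨m, hm⟩ := exists_pw (h.dat.exp z (h.dat.ZE h.dat.zZ)) hu
      rw [hm, hφpw hzB]
      exact Subgroup.npow_mem_zpowers _ _
  have hfB : ∀ k, k ≤ i → f k ≤ B := by
    intro k hk
    induction hd : i - k generalizing k with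
    | zero => rw [show k = i by omega, hi]
    | succ d ih => exact (hf k (by omega)).1.trans (ih (k + 1) (by omega) (by omega))
  classical
  let F' : ℕ → Subgroup Ω := fun k => if hk : k ≤ i then im (f k) (hfB k hk) else ⊥
  have hF' : ∀ k (hk : k ≤ i), F' k = im (f k) (hfB k hk) := fun k hk => dif_pos hk
  have imcongr : ∀ {K L} (hK : K ≤ B) (hL : L ≤ B), K = L → im K hK = im L hL := fun hK hL e => by subst e; rfl
  have hET : E ≤ T := by rw [h.dat.nrm]; exact le_normalizerIn h.dat.centric.1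
  refine ⟨im A h.AB, im M h.MB, im E hEB, im T hTB, im Z hZB, η', ⟨?_, h.one_le, ⟨F', ?_, ?_, ?_, ?_, ?_, ?_⟩, ?_,
    mono h.MB h.AB h.MA, (cim h.MB).trans h.cardM, mono hZB h.MB h.ZM, ?_, ?_, ?_, ?_, ?_, ?_, exim h.AB h.MB h.exA, ?_, ?_⟩,
    fun v => mim h.AB, fun v => mim hZB, hη'⟩
  · refine ⟨isCentric_conj h.dat.centric (isoim hEB).isConj, ?_, ?_, (cim hEB).trans h.dat.cardE, ?_,
      (cim hTB).trans h.dat.cardT, (cim hZB).trans h.dat.cardZ, mono hZB hEB h.dat.ZE, (mim hZB).mpr ⟨z, h.dat.zZ, rfl⟩,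
      fun e => h.dat.z_ne (hzero hzB e), (mim hEB).mpr ⟨x, h.dat.xE, rfl⟩, ?_, ?_, ?_, ?_, ?_⟩
    · intro a ha b hb
      obtain ⟨u, hu, rfl⟩ := (mim hEB).mp ha
      obtain ⟨v, hv, rfl⟩ := (mim hEB).mp hb
      rw [← hφ.mor.map_mul (hEB hu) (hEB hv), ← hφ.mor.map_mul (hEB hv) (hEB hu), h.dat.comm u hu v hv]
    · intro a ha
      obtain ⟨u, hu, rfl⟩ := (mim hEB).mp ha
      rw [← hφ.mor.map_pow (hEB hu), h.dat.exp u hu, hφ.mor.map_one]
    · haveI := finite_of_le (normalizerIn_le : normalizerIn S (im E hEB) ≤ S)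
      haveI := finite_of_le ((isoim hEB).cod_le)
      refine eq_of_le_of_card (fun v hv => ?_) ?_
      · obtain ⟨u, hu, rfl⟩ := (mim hTB).mp hv
        have hun : u ∈ normalizerIn S E := h.dat.nrm ▸ hu
        refine ⟨hφ.mor.map_mem (hTB hu), Subgroup.mem_normalizer_fintype fun w hw => ?_⟩
        obtain ⟨e, he, rfl⟩ := (mim hEB).mp hw
        exact (mim hEB).mpr ⟨_, (cj_mem_iff hun.2 e).mpr he, hφ.mor.map_conj (hTB hu) (hEB he)⟩
      · rw [cim hTB, h.dat.cardT]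
        exact (bim hEB (h0 ▸ (hf 0 h.one_le).2.2)) _ id (Iso.refl (isoim hEB).cod_le)
    · intro h'
      obtain ⟨u, hu, e⟩ := (mim hZB).mp h'
      exact h.dat.xZ (hφ.mor.injOn (hZB hu) hxB e ▸ hu)
    · intro e he a ha
      obtain ⟨u, hu, rfl⟩ := (mim hZB).mp he
      obtain ⟨v, hv, rfl⟩ := (mim hTB).mp ha
      rw [← hφ.mor.map_mul (hTB hv) (hZB hu), ← hφ.mor.map_mul (hZB hu) (hTB hv), h.dat.cent u hu v hv]
    · intro e he hc
      obtain ⟨u, hu, rfl⟩ := (mim hTB).mp he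
      refine (mim hZB).mpr ⟨u, h.dat.cent_eq u hu fun a ha => hφ.mor.injOn (B.mul_mem (hTB ha) (hTB hu))
        (B.mul_mem (hTB hu) (hTB ha)) ?_, rfl⟩
      rw [hφ.mor.map_mul (hTB ha) (hTB hu), hφ.mor.map_mul (hTB hu) (hTB ha)]
      exact hc _ ((mim hTB).mpr ⟨a, ha, rfl⟩)
    · intro a ha e he
      obtain ⟨u, hu, rfl⟩ := (mim hTB).mp ha
      obtain ⟨v, hv, rfl⟩ := (mim hEB).mp he
      rw [hzim]
      refine (mim hzz).mpr ⟨_, h.dat.tv u hu v hv, ?_⟩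
      rw [hφ.mor.map_mul (B.inv_mem (hEB hv)) (B.mul_mem (B.mul_mem (hTB hu) (hEB hv)) (B.inv_mem (hTB hu))),
        hφ.mor.map_inv (hEB hv), hφ.mor.map_conj (hTB hu) (hEB hv)]
    · intro a ha e
      obtain ⟨u, hu, rfl⟩ := (mim hTB).mp ha
      refine (mim hEB).mpr ⟨u, h.dat.tv_ne u hu (hφ.mor.injOn (B.mul_mem (hTB hu) hxB) (B.mul_mem hxB (hTB hu)) ?_), rfl⟩
      rw [hφ.mor.map_mul (hTB hu) hxB, hφ.mor.map_mul hxB (hTB hu), e]
  · rw [hF' 0 (by omega)]; exact imcongr (hfB 0 (by omega)) hEB h0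
  · rw [hF' 1 h.one_le]; exact imcongr (hfB 1 h.one_le) hTB h1
  · rw [hF' i le_rfl, imcongr (hfB i le_rfl) le_rfl hi]
    refine SetLike.ext fun v => ⟨fun hv => ?_, fun hv => ?_⟩
    · obtain ⟨u, hu, rfl⟩ := (mim le_rfl).mp hv
      exact hφ.mapsTo hu
    · exact (mim le_rfl).mpr (hφ.surj hv)
  · rw [hF' (i - 1) (by omega)]; exact imcongr (hfB (i - 1) (by omega)) h.AB hi1
  · intro k hk
    rw [hF' k hk, cim (hfB k hk), hcard k hk]
  · intro k hk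
    rw [hF' k hk.le, hF' (k + 1) hk]
    exact ⟨mono (hfB k hk.le) (hfB (k + 1) hk) (hf k hk).1, nim (hfB (k + 1) hk) (hfB k hk.le) (hf k hk).2.1, bim (hfB k hk.le) (hf k hk).2.2⟩
  · exact (hg.comp h.iso).comp hφ
  · intro v hv
    have h1 : g v ∈ ⁅B, B⁆ := comm_image hg.mor (fun b hb => hg.mapsTo hb) v hv
    refine (mim h.MB).mpr ⟨g v, h.commM h1, hfg v ?_⟩
    exact (Subgroup.commutator_le.mpr (fun a ha b hb =>
      B'.mul_mem (B'.mul_mem (B'.mul_mem ha hb) (B'.inv_mem ha)) (B'.inv_mem hb))) hv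
  · intro v hv
    obtain ⟨u, hu, rfl⟩ := (mim h.MB).mp hv
    refine (hφ.mor.restrict (sup_le (h.commM.trans h.MB) hZB)).map_sup (fun w hw => ?_) (fun w hw => ?_) u (h.Mle hu)
    · exact Subgroup.mem_sup_left (comm_image hφ.mor (fun b hb => hφ.mapsTo hb) w hw)
    · exact Subgroup.mem_sup_right ((mim hZB).mpr ⟨w, hw, rfl⟩)
  · intro h'
    obtain ⟨u, hu, e⟩ := (mim h.MB).mp h'
    exact h.xM (hφ.mor.injOn (h.MB hu) hxB e ▸ hu)
  · intro e he b hb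
    obtain ⟨u, hu, rfl⟩ := (mim hZB).mp he
    obtain ⟨v, hv, rfl⟩ := hφ.surj hb
    rw [← hφ.mor.map_mul hv (hZB hu), ← hφ.mor.map_mul (hZB hu) hv, h.cent u hu v hv]
  · intro a ha
    obtain ⟨u, hu, rfl⟩ := (mim h.AB).mp ha
    rw [hη' u (h.AB hu)]
    exact (mim h.AB).mpr ⟨_, h.ηA u hu, rfl⟩
  · rw [hη' z hzB, h.ηz, hφpw hzB]
  · have := exim le_rfl h.AB h.exB
    intro v hv
    exact this v ((mim le_rfl).mpr (hφ.surj hv))
  · rw [hzim]; exact exim hZB hzz h.exZ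

end Cfsg.Agent.Fusion.RankThree
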