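/-
Climbing one level of the normalizer chain.
-/
import Cfsg.Agent.Fusion.RankThree.Level
import Cfsg.Agent.Fusion.MaxClassPower
set_option autoImplicit false

namespace Cfsg.Agent.Fusion.RankThree

open Cfsg Cfsg.FusionSystem
open scoped commutatorElement

variable {Ω : Type*} [Group Ω] {S : Subgroup Ω} {F : FusionSystem S} {p : ℕ} [hp : Fact p.Prime]
  {i : ℕ} {l : ZMod p} {B A M E T Z : Subgroup Ω} {z x : Ω} {η : Ω → Ω}

/-- The facts about `N_S(B)` and its fixed middle subgroup. -/
structure Top (S : Subgroup Ω) (p i : ℕ) (B A M Z L : Subgroup Ω) (x : Ω) : Prop where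
  cardN : Nat.card (normalizerIn S B) = p ^ (4 + i)
  Ldef : L = ⁅normalizerIn S B, normalizerIn S B⁆ ⊔ Z
  ML : M ≤ L
  LB : L ≤ B
  cardL : Nat.card L = p * Nat.card M
  nrmL : Nrm (normalizerIn S B) L
  AL : A ≠ L
  xL : x ∉ L
  inf : A ⊓ L = M
  mid : ∀ X, M ≤ X ∧ X ≤ B ∧ Nat.card X = p * Nat.card M →
    X = L ∨ ∃ g ∈ normalizerIn S B, X = A.map (MulAut.conj g).toMonoidHom

theorem Lev.top (h : Lev F p i l B A M E T Z z x η) [Finite S] (hS : IsPGroup p S)
    (hlt : B < S) : ∃ L, Top S p i B A M Z L x := by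
  classical
  have hBS := h.BS
  haveI := finite_of_le hBS
  haveI : Finite (normalizerIn S B) := finite_of_le normalizerIn_le
  set N := normalizerIn S B with hN
  have hNp : IsPGroup p N := hS.to_le normalizerIn_le
  have hBN : B ≤ N := le_normalizerIn hBS
  haveI : Finite A := finite_of_le (h.AB.trans hBS)
  haveI : Finite M := finite_of_le (h.MB.trans hBS)
  have hNA : Nat.card (normalizerIn S A) ≤ Nat.card B := by rw [h.normA]
  have hub := normalizer_bound hS hBS h.MA h.AB h.cardA h.cardB' h.normM hNA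
  have hlb : p * Nat.card B ≤ Nat.card N := by
    have h1 := card_lt_of_lt (lt_normalizerIn hS hlt)
    obtain ⟨j, hj⟩ := IsPGroup.iff_card.mp hNp
    rw [hj, h.cardB, Nat.pow_lt_pow_iff_right hp.out.one_lt] at h1
    rw [hj, h.cardB, ← pow_succ']
    exact Nat.pow_le_pow_right hp.out.pos h1
  have hNc : Nat.card N = p * Nat.card B := le_antisymm hub hlb
  have hBn : Nrm N B := fun g hg b hb => (cj_mem_iff hg.2 b).mpr hb
  have hxB : x ∈ B := h.AB h.xA
  have hZB : Z ≤ B := h.ZM.trans h.MB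
  set L := ⁅N, N⁆ ⊔ Z with hL
  have hcommB : ⁅N, N⁆ ≤ B := by
    rw [Subgroup.commutator_le]
    intro a ha b hb
    haveI := hBn.normal
    have hic : Nat.card (N ⧸ B.subgroupOf N) = p := by
      have h1 := Subgroup.card_eq_card_quotient_mul_card_subgroup (B.subgroupOf N)
      rw [Nat.card_congr (Subgroup.subgroupOfEquivOfLe hBN).toEquiv, hNc] at h1
      exact (Nat.eq_of_mul_eq_mul_right Nat.card_pos h1).symm
    haveI := isCyclic_of_prime_card hic
    have h1 : ⁅(⟨a, ha⟩ : N), (⟨b, hb⟩ : N)⁆ ∈ B.subgroupOf N := by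
      rw [← QuotientGroup.eq_one_iff]
      show QuotientGroup.mk' (B.subgroupOf N) ⁅(⟨a, ha⟩ : N), (⟨b, hb⟩ : N)⁆ = 1
      rw [map_commutatorElement, commutatorElement_eq_one_iff_mul_comm]
      exact (IsCyclic.commGroup (α := N ⧸ B.subgroupOf N)).mul_comm _ _
    exact h1
  have hLB : L ≤ B := sup_le hcommB hZB
  haveI : Finite L := finite_of_le (hLB.trans hBS)
  have hML : M ≤ L := h.Mle.trans (sup_le_sup_right (Subgroup.commutator_mono hBN hBN) Z)
  have hnrm : Nrm N L := by
    intro g hg u hu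
    have hm : Mor F L (cj g) := Mor.conj (hLB.trans hBS) hg.1
    refine hm.map_sup (T := L) (fun w hw => Subgroup.mem_sup_left ?_) (fun w hw => Subgroup.mem_sup_right (h.normZ g hg w hw)) u hu
    exact comm_image (Mor.conj (F := F) (normalizerIn_le : N ≤ S) hg.1)
      (fun b hb => N.mul_mem (N.mul_mem hg hb) (N.inv_mem hg)) w hw
  have hne_M : L ≠ M := fun e => by
    have hle : N ≤ normalizerIn S A := fun g hg => ⟨hg.1, Subgroup.mem_normalizer_fintype fun a ha => by
      have h1 : ⁅g, a⁆ ∈ M := e ▸ Subgroup.mem_sup_left (Subgroup.commutator_mem_commutator hg (hBN (h.AB ha)))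
      have := A.mul_mem (h.MA h1) ha
      simpa [commutatorElement_def] using this⟩
    rw [h.normA] at hle
    have := card_le_of_le hle
    rw [hNc] at this
    have := hp.out.two_le
    have : 0 < Nat.card B := Nat.card_pos
    nlinarith
  have hne_B : L ≠ B := by
    intro e
    obtain ⟨g, hg, hgB⟩ := SetLike.exists_of_lt (lt_normalizerIn hS hlt)
    haveI := hNp.isNilpotent
    let g' : N := ⟨g, hg⟩
    have htop : (Subgroup.zpowers g' ⊔ Z.subgroupOf N) ⊔ commutator N = ⊤ := by
      rw [eq_top_iff]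
      rintro ⟨u, hu⟩ -
      obtain ⟨j, hj⟩ := exists_gen hBN hBn hNc hg hgB u hu
      have hmap : (commutator N ⊔ Z.subgroupOf N).map N.subtype = B := by
        rw [Subgroup.map_sup, N.map_subtype_commutator, Subgroup.map_subgroupOf_eq_of_le (hZB.trans hBN), ← hL, e]
      obtain ⟨w, hw, hw'⟩ := (SetLike.ext_iff.mp hmap _).mpr hj
      have : (⟨u, hu⟩ : N) = g' ^ j * w := Subtype.ext (by
        show u = g ^ j * (w : Ω)
        rw [show (w : Ω) = (g ^ j)⁻¹ * u from hw', mul_inv_cancel_left])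
      rw [this]
      exact mul_mem (Subgroup.mem_sup_left (Subgroup.mem_sup_left (Subgroup.npow_mem_zpowers _ _)))
        ((sup_le le_sup_right (le_sup_right.trans le_sup_left) : commutator N ⊔ Z.subgroupOf N ≤ _) hw)
    have htop2 : Subgroup.zpowers g' ⊔ Z.subgroupOf N = ⊤ := frattini_nongenerating
      (top_le_iff.mp (htop ▸ sup_le_sup_left (FGS3.commutator_le_frattini hNp) _))
    haveI : (Z.subgroupOf N).Normal := Nrm.normal h.normZ
    have hcz : commutator N ≤ Z.subgroupOf N := by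
      rw [commutator_def, ← htop2]
      exact MaxPow.commutator_sup_le g' (Subgroup.commutator_le_left _ _)
    have hBZ : B ≤ Z := by
      rw [← e, hL]
      refine sup_le (fun u hu => ?_) le_rfl
      rw [← N.map_subtype_commutator] at hu
      obtain ⟨w, hw, rfl⟩ := hu
      exact hcz hw
    haveI : Finite Z := finite_of_le (hZB.trans hBS)
    have := card_le_of_le hBZ
    rw [h.cardB, h.dat.cardZ, Nat.pow_le_pow_iff_right hp.out.one_lt] at this
    omega
  have hMlt : M < L := lt_of_le_of_ne hML (Ne.symm hne_M)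
  have hLc : Nat.card L = p * Nat.card M := by
    obtain ⟨j, hj⟩ := IsPGroup.iff_card.mp (hS.to_le (hLB.trans hBS))
    have h1 := card_lt_of_lt hMlt
    have h2 := card_lt_of_lt (lt_of_le_of_ne hLB hne_B)
    rw [hj, h.cardM, Nat.pow_lt_pow_iff_right hp.out.one_lt] at h1
    rw [hj, h.cardB, Nat.pow_lt_pow_iff_right hp.out.one_lt] at h2
    rw [hj, h.cardM, ← pow_succ']
    congr 1
    omega
  have hAL : A ≠ L := fun e => by
    have hle : N ≤ normalizerIn S A := fun g hg => ⟨hg.1, Subgroup.mem_normalizer_fintype fun a ha => by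
      have : g * a * g⁻¹ ∈ L := hnrm g hg a (e ▸ ha)
      rw [← e] at this; exact this⟩
    rw [h.normA] at hle
    have := card_le_of_le hle
    rw [hNc] at this
    have := hp.out.two_le
    have : 0 < Nat.card B := Nat.card_pos
    nlinarith
  have hinf : A ⊓ L = M := by
    haveI : Finite ↥(A ⊓ L) := finite_of_le (inf_le_left.trans (h.AB.trans hBS))
    refine (eq_of_le_of_card (le_inf h.MA hML) ?_).symm
    obtain ⟨j, hj⟩ := IsPGroup.iff_card.mp (hS.to_le (inf_le_left.trans (h.AB.trans hBS) : A ⊓ L ≤ S))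
    have h1 := card_lt_of_lt (lt_of_le_of_ne (inf_le_left : A ⊓ L ≤ A) fun e => hAL
      (eq_of_le_of_card (inf_eq_left.mp e) (hLc.le.trans h.cardA.ge)))
    rw [hj, h.cardA, h.cardM, ← pow_succ', Nat.pow_lt_pow_iff_right hp.out.one_lt] at h1
    rw [hj, h.cardM]
    exact Nat.pow_le_pow_right hp.out.pos (by omega)
  refine ⟨L, ?_, rfl, hML, hLB, hLc, hnrm, hAL, fun hx => h.xM (hinf.le ⟨h.xA, hx⟩), hinf,
    fun X hX => middle_cases hS hBS h.MA h.AB h.cardA h.cardB' h.normM ⟨hML, hLB, hLc⟩ hnrm hAL hlb hNA hX⟩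
  rw [hNc, h.cardB, ← pow_succ']
  congr 1
  omega

end Cfsg.Agent.Fusion.RankThree
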