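/-
Making the automorphism of a level fix the middle subgroup normalised by the normalizer.
-/
import Cfsg.Agent.Fusion.RankThree.Step
set_option autoImplicit false

namespace Cfsg.Agent.Fusion.RankThree

open Cfsg Cfsg.FusionSystem
open scoped commutatorElement

variable {Ω : Type*} [Group Ω] {S : Subgroup Ω} {F : FusionSystem S} {p : ℕ} [hp : Fact p.Prime]
  {i : ℕ} {l : ZMod p} {B A M E T Z : Subgroup Ω} {z x : Ω} {η : Ω → Ω}

theorem pow_eq_pw {H : Type*} [Group H] {v : H} (hv : v ^ p = 1) (m : ℕ) : v ^ m = pw v (m : ZMod p) := by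
  show v ^ m = v ^ (m : ZMod p).val
  rw [ZMod.val_natCast, ← pow_eq_pow_mod m hv]

theorem hom_pw {H K : Type*} [Group H] [Group K] (f : H →* K) (v : H) (a : ZMod p) : f (pw v a) = pw (f v) a :=
  map_pow f v _

theorem Ex.twist {K L : Subgroup Ω} {f τ : Ω → Ω} {e : ZMod p} (hf : Ex f K L e) (hfK : ∀ y ∈ K, f y ∈ K)
    (hτ : ∀ u ∈ K, u⁻¹ * τ u ∈ L) : Ex (τ ∘ f) K L e := fun y hy => by
  have := L.mul_mem (hf y hy) (hτ _ (hfK y hy))
  simpa [mul_assoc] using this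

theorem Ex.comp {K L : Subgroup Ω} {f g : Ω → Ω} {a b : ZMod p} (hn : Nrm K L) (hLK : L ≤ K)
    (hexp : ∀ y ∈ K, y ^ p ∈ L) (hf : Ex f K L a) (hg : Ex g K L b) (hm : Mor F K g)
    (hfK : ∀ y ∈ K, f y ∈ K) (hgK : ∀ y ∈ K, g y ∈ K) (hgL : ∀ y ∈ L, g y ∈ L) :
    Ex (g ∘ f) K L (a * b) := by
  intro y hy
  haveI := hn.normal
  let q := QuotientGroup.mk' (L.subgroupOf K)
  have hqp : q ⟨y, hy⟩ ^ p = 1 := by
    rw [← map_pow]
    exact (QuotientGroup.eq_one_iff _).mpr (Subgroup.mem_subgroupOf.mpr (hexp y hy))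
  have e0 : g (f y) = pw (g y) a * g ((pw y a)⁻¹ * f y) := by
    rw [← mor_map_pw hm hy, ← hm.map_mul (pw_mem hy a) (K.mul_mem (K.inv_mem (pw_mem hy a)) (hfK y hy)),
      mul_inv_cancel_left]
  have e1 : q ⟨g y, hgK y hy⟩ = q ⟨y, hy⟩ ^ b.val := by
    rw [← map_pow]; exact (QuotientGroup.eq.mpr (Subgroup.mem_subgroupOf.mpr (hg y hy))).symm
  have e2 : q ⟨g (f y), hgK _ (hfK y hy)⟩ = q ⟨g y, hgK y hy⟩ ^ a.val := by
    rw [← map_pow]
    refine (QuotientGroup.eq.mpr (Subgroup.mem_subgroupOf.mpr ?_)).symm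
    show (g y ^ a.val)⁻¹ * g (f y) ∈ L
    rw [e0]
    show (g y ^ a.val)⁻¹ * (g y ^ a.val * g ((pw y a)⁻¹ * f y)) ∈ L
    rw [inv_mul_cancel_left]
    exact hgL _ (hf y hy)
  have e3 : q ⟨g (f y), hgK _ (hfK y hy)⟩ = q (⟨y, hy⟩ ^ (a * b).val) := by
    rw [map_pow, e2, e1, ← pow_mul, ZMod.val_mul, mul_comm b.val, ← pow_eq_pow_mod _ hqp]
  exact Subgroup.mem_subgroupOf.mp (QuotientGroup.eq.mp e3.symm)

theorem Ex.iterate {K L : Subgroup Ω} {f : Ω → Ω} {e : ZMod p} (hn : Nrm K L) (hLK : L ≤ K)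
    (hexp : ∀ y ∈ K, y ^ p ∈ L) (hf : Ex f K L e) (hm : Mor F K f) (hfK : ∀ y ∈ K, f y ∈ K)
    (hfL : ∀ y ∈ L, f y ∈ L) : ∀ k, (∀ y ∈ K, f^[k] y ∈ K) ∧ (∀ y ∈ L, f^[k] y ∈ L) ∧ Ex f^[k] K L (e ^ k)
  | 0 => ⟨fun _ hy => hy, fun _ hy => hy, fun y _ => by simp [pw, ZMod.val_one]⟩
  | k + 1 => by
    obtain ⟨h1, h2, h3⟩ := Ex.iterate hn hLK hexp hf hm hfK hfL k
    rw [Function.iterate_succ', pow_succ]
    exact ⟨fun y hy => hfK _ (h1 y hy), fun y hy => hfL _ (h2 y hy), Ex.comp hn hLK hexp h3 hf hm h1 hfK hfL⟩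

omit hp in
theorem iso_iterate {f : Ω → Ω} {P : Subgroup Ω} (h : Iso F f P P) : ∀ k, Iso F f^[k] P P
  | 0 => Iso.refl h.dom_le
  | k + 1 => by rw [Function.iterate_succ']; exact (iso_iterate h k).comp h

theorem Lev.nrmAM (h : Lev F p i l B A M E T Z z x η) : Nrm A M := fun a ha =>
  h.normM a (le_normalizerIn h.BS (h.AB ha))

/-- The automorphism may be replaced by its `p`-th iterate. -/
theorem Lev.iterate (h : Lev F p i l B A M E T Z z x η) [Finite S] :
    Lev F p i l B A M E T Z z x η^[p] := by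
  haveI := finite_of_le h.BS
  haveI := finite_of_le (h.AB.trans h.BS)
  have hAm : Mor F A η := h.iso.mor.restrict h.AB
  have hZB : Z ≤ B := h.ZM.trans h.MB
  have hzZ : ∀ y ∈ Subgroup.zpowers z, η y ∈ Subgroup.zpowers z := by
    intro y hy
    obtain ⟨m, rfl⟩ := exists_pw (h.dat.exp z (h.dat.ZE h.dat.zZ)) hy
    rw [mor_map_pw h.iso.mor (hZB h.dat.zZ), h.ηz]
    exact pw_mem (pw_mem (Subgroup.mem_zpowers z) _) _
  obtain ⟨a1, -, a3⟩ := Ex.iterate h.nrmAM h.MA (fun y hy => pow_prime_mem h.MA h.nrmAM h.cardA hy)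
    h.exA hAm h.ηA (fun y hy => h.Mchar h.iso y hy) p
  have hBc : Nat.card B = p * Nat.card A := by rw [h.cardB', h.cardA]; ring
  obtain ⟨-, -, b3⟩ := Ex.iterate h.nrmA h.AB (fun y hy => pow_prime_mem h.AB h.nrmA hBc hy)
    h.exB h.iso.mor (fun y hy => h.iso.mapsTo hy) h.ηA p
  obtain ⟨-, -, c3⟩ := Ex.iterate (K := Z) (L := Subgroup.zpowers z)
    (fun k hk u hu => by
      rw [h.dat.comm k (h.dat.ZE hk) u (h.dat.ZE (Subgroup.zpowers_le.mpr h.dat.zZ hu)), mul_inv_cancel_right]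
      exact hu)
    (Subgroup.zpowers_le.mpr h.dat.zZ) (fun y hy => by rw [h.dat.exp y (h.dat.ZE hy)]; exact one_mem _)
    h.exZ (h.iso.mor.restrict hZB) (fun y hy => h.Zchar h.iso y hy) hzZ p
  have hz : ∀ k, η^[k] z = pw z (l ^ k) := by
    intro k
    induction k with
    | zero => simp [pw, ZMod.val_one]
    | succ k ih =>
      rw [Function.iterate_succ_apply', ih, mor_map_pw h.iso.mor (hZB h.dat.zZ), h.ηz,
        ← pw_mul (h.dat.exp z (h.dat.ZE h.dat.zZ)), pow_succ']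
  rw [ZMod.pow_card] at a3 b3
  rw [one_pow] at c3
  exact { h with
    iso := iso_iterate h.iso p
    ηA := a1
    ηz := by rw [hz, ZMod.pow_card]
    exA := a3
    exB := b3
    exZ := c3 }

theorem card_sup_zpowers {M : Subgroup Ω} {w : Ω} [Finite ↥(M ⊔ Subgroup.zpowers w)]
    (hn : ∀ m ∈ M, w * m * w⁻¹ ∈ M) (hwp : w ^ p ∈ M) (hw : w ∉ M) :
    Nrm (M ⊔ Subgroup.zpowers w) M ∧ Nat.card ↥(M ⊔ Subgroup.zpowers w) = p * Nat.card M := by
  set X := M ⊔ Subgroup.zpowers w with hX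
  haveI : Finite M := finite_of_le (le_sup_left : M ≤ X)
  have hXn : X ≤ Subgroup.normalizer (M : Set Ω) := sup_le Subgroup.le_normalizer
    (Subgroup.zpowers_le.mpr (Subgroup.mem_normalizer_fintype hn))
  have hN : Nrm X M := fun g hg m hm => (cj_mem_iff (hXn hg) m).mpr hm
  refine ⟨hN, ?_⟩
  haveI := hN.normal
  let w' : X := ⟨w, Subgroup.mem_sup_right (Subgroup.mem_zpowers w)⟩
  let q := QuotientGroup.mk' (M.subgroupOf X)
  have htop : M.subgroupOf X ⊔ Subgroup.zpowers w' = ⊤ := by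
    apply Subgroup.map_injective X.subtype_injective
    rw [Subgroup.map_sup, MonoidHom.map_zpowers, Subgroup.map_subgroupOf_eq_of_le le_sup_left,
      ← MonoidHom.range_eq_map, Subgroup.range_subtype]
    rfl
  have hq : Subgroup.zpowers (q w') = ⊤ := by
    rw [← MonoidHom.map_zpowers, ← Subgroup.map_top_of_surjective q (QuotientGroup.mk'_surjective _), ← htop,
      Subgroup.map_sup, QuotientGroup.map_mk'_self, bot_sup_eq]
  have ho : orderOf (q w') = p := orderOf_eq_prime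
    (by rw [← map_pow]; exact (QuotientGroup.eq_one_iff _).mpr (Subgroup.mem_subgroupOf.mpr hwp))
    (fun e => hw (Subgroup.mem_subgroupOf.mp ((QuotientGroup.eq_one_iff _).mp e)))
  have h1 := Subgroup.card_eq_card_quotient_mul_card_subgroup (M.subgroupOf X)
  rw [Nat.card_congr (Subgroup.subgroupOfEquivOfLe (le_sup_left : M ≤ X)).toEquiv, ← Subgroup.card_top (G := X ⧸ M.subgroupOf X),
    ← hq, Nat.card_zpowers, ho] at h1
  exact h1

theorem map_conj_mem {K : Subgroup Ω} {g u : Ω} :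
    u ∈ K.map (MulAut.conj g).toMonoidHom ↔ g⁻¹ * u * g ∈ K := by
  constructor
  · rintro ⟨a, ha, rfl⟩; simpa [mul_assoc] using ha
  · intro h; exact ⟨_, h, by simp [mul_assoc]⟩

theorem Lev.adjust (h : Lev F p i l B A M E T Z z x η) [Finite S] (hS : IsPGroup p S) (hl : l ≠ 0)
    (hlt : B < S) : ∃ (A' M' E' T' Z' : Subgroup Ω) (z' x' : Ω) (η' : Ω → Ω) (L : Subgroup Ω),
      Lev F p i l B A' M' E' T' Z' z' x' η' ∧ Top S p i B A' M' Z' L x' ∧ ∀ y ∈ L, η' y ∈ L := by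
  classical
  obtain ⟨L, hT⟩ := h.top hS hlt
  by_cases hinv : ∀ y ∈ L, η y ∈ L
  · exact ⟨A, M, E, T, Z, z, x, η, L, h, hT, hinv⟩
  haveI := finite_of_le h.BS
  haveI : Finite L := finite_of_le (hT.LB.trans h.BS)
  haveI : Finite M := finite_of_le (h.MB.trans h.BS)
  haveI : Finite A := finite_of_le (h.AB.trans h.BS)
  have hBN : B ≤ normalizerIn S B := le_normalizerIn h.BS
  have hLM : Nrm L M := fun g hg => h.normM g (hBN (hT.LB hg))
  have hBM : Nrm B M := fun g hg => h.normM g (hBN hg)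
  have hxB := h.AB h.xA
  obtain ⟨v, hvL, hvM⟩ := SetLike.exists_of_lt (lt_of_le_of_ne hT.ML fun e => by
    have := hT.cardL; rw [← e] at this
    have := hp.out.two_le; have : 0 < Nat.card M := Nat.card_pos
    nlinarith)
  have hvB := hT.LB hvL
  have hvA : v ∉ A := fun ha => hvM (hT.inf.le ⟨ha, hvL⟩)
  have hgA := exists_gen h.MA h.nrmAM h.cardA h.xA h.xM
  have hgL := exists_gen hT.ML hLM hT.cardL hvL hvM
  set e := l ^ (i + 1) with he
  set μ := l⁻¹ with hμ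
  have he0 : e ≠ 0 := pow_ne_zero _ hl
  obtain ⟨j, hj⟩ := hgA _ (h.exB v hvB)
  haveI := hBM.normal
  let q := QuotientGroup.mk' (M.subgroupOf B)
  have hab : ∀ a b : B ⧸ M.subgroupOf B, Commute a b := by
    intro a b
    obtain ⟨a, rfl⟩ := QuotientGroup.mk'_surjective _ a
    obtain ⟨b, rfl⟩ := QuotientGroup.mk'_surjective _ b
    rw [← commutatorElement_eq_one_iff_commute, ← map_commutatorElement]
    exact (QuotientGroup.eq_one_iff _).mpr (Subgroup.mem_subgroupOf.mpr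
      (h.commM (Subgroup.commutator_mem_commutator a.2 b.2)))
  set V := q ⟨v, hvB⟩ with hV
  set X := q ⟨x, hxB⟩ with hX
  have hVp : V ^ p = 1 := by
    rw [hV, ← map_pow]
    exact (QuotientGroup.eq_one_iff _).mpr (Subgroup.mem_subgroupOf.mpr (pow_prime_mem hT.ML hLM hT.cardL hvL))
  have hXp : X ^ p = 1 := by
    rw [hX, ← map_pow]
    exact (QuotientGroup.eq_one_iff _).mpr (Subgroup.mem_subgroupOf.mpr (pow_prime_mem h.MA h.nrmAM h.cardA h.xA))
  let α : B →* B := h.iso.equiv.toMonoidHom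
  have hαM : ∀ b : B, q b = 1 → q (α b) = 1 := fun b hb => (QuotientGroup.eq_one_iff _).mpr
    (Subgroup.mem_subgroupOf.mpr (h.Mchar h.iso b (Subgroup.mem_subgroupOf.mp ((QuotientGroup.eq_one_iff _).mp hb))))
  let ψ : B ⧸ M.subgroupOf B →* B ⧸ M.subgroupOf B := QuotientGroup.lift _ (q.comp α) fun b hb =>
    hαM b ((QuotientGroup.eq_one_iff _).mpr hb)
  have hψ : ∀ b : B, ψ (q b) = q (α b) := fun _ => rfl
  have hψX : ψ X = pw X μ := by
    rw [hX, hψ]; show _ = _ ^ μ.val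
    rw [← map_pow]
    exact (QuotientGroup.eq.mpr (Subgroup.mem_subgroupOf.mpr (h.exA x h.xA))).symm
  have hψV : ψ V = pw V e * pw X (j : ZMod p) := by
    rw [hV, hψ, ← pow_eq_pw hXp j, hX]
    show _ = _ ^ e.val * _
    rw [← map_pow, ← map_pow, ← map_mul]
    refine (QuotientGroup.eq.mpr (Subgroup.mem_subgroupOf.mpr ?_)).symm
    show (v ^ e.val * x ^ j)⁻¹ * η v ∈ M
    rw [mul_inv_rev, mul_assoc]; exact hj
  by_cases hem : e = μ
  · -- the `p`-th iterate fixes the coset of `v`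
    have key : ∀ k, ψ^[k] V = pw V (e ^ k) * pw X ((k : ZMod p) * e ^ k * ((j : ZMod p) / e)) := by
      intro k
      induction k with
      | zero => simp [pw, ZMod.val_one]
      | succ k ih =>
        rw [Function.iterate_succ_apply', ih, map_mul, hom_pw, hom_pw, hψV, hψX, mul_pw (hab _ _),
          ← pw_mul hVp, ← pw_mul hXp, ← pw_mul hXp, mul_assoc, ← pw_add hXp]
        congr 1
        · rw [pow_succ']
        · congr 1
          rw [← hem]; push_cast; rw [pow_succ']; field_simp; ring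
    have hit : ∀ k (b : B) (hb : η^[k] (b : Ω) ∈ B), ψ^[k] (q b) = q ⟨η^[k] b, hb⟩ := by
      intro k
      induction k with
      | zero => intro b hb; rfl
      | succ k ih =>
        intro b hb
        have hk : η^[k] (b : Ω) ∈ B := (iso_iterate h.iso k).mapsTo b.2
        rw [Function.iterate_succ_apply', ih b hk, hψ]
        congr 1
        exact Subtype.ext (Function.iterate_succ_apply' η k (b : Ω)).symm
    have h1 := key p
    rw [ZMod.natCast_self, zero_mul, zero_mul, ZMod.pow_card, show pw X (0 : ZMod p) = 1 by simp [pw], mul_one,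
      hV, hit p ⟨v, hvB⟩ ((iso_iterate h.iso p).mapsTo hvB)] at h1
    have h2 : (pw v e)⁻¹ * η^[p] v ∈ M := Subgroup.mem_subgroupOf.mp (QuotientGroup.eq.mp
      (h1.trans (map_pow q _ _).symm).symm)
    refine ⟨A, M, E, T, Z, z, x, η^[p], L, h.iterate, hT, fun y hy => ?_⟩
    obtain ⟨k, hk⟩ := hgL y hy
    have hm := iso_iterate h.iso p
    have hv' : η^[p] v ∈ L := by
      have := L.mul_mem (pw_mem hvL e) (hT.ML h2)
      rwa [mul_inv_cancel_left] at this
    have := L.mul_mem (L.pow_mem hv' k) (hT.ML (h.Mchar hm _ hk))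
    rwa [← hm.mor.map_pow hvB, ← hm.mor.map_mul (B.pow_mem hvB k) (h.MB hk), mul_inv_cancel_left] at this
  -- an invariant subgroup different from `A`
  set t : ZMod p := (j : ZMod p) / (e - μ) with ht
  set w := v * pw x t with hw
  have hwB : w ∈ B := B.mul_mem hvB (pw_mem hxB t)
  have hwA : w ∉ A := fun ha => hvA (by
    have := A.mul_mem ha (A.inv_mem (pw_mem h.xA t))
    rwa [hw, mul_inv_cancel_right] at this)
  have hW : q ⟨w, hwB⟩ = V * pw X t := by
    rw [hX, ← hom_pw]; exact map_mul q ⟨v, hvB⟩ ⟨pw x t, pw_mem hxB t⟩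
  have hψW : ψ (q ⟨w, hwB⟩) = pw (q ⟨w, hwB⟩) e := by
    rw [hW, map_mul, hom_pw, hψV, hψX, mul_pw (hab _ _), ← pw_mul hXp, ← pw_mul hXp, mul_assoc, ← pw_add hXp]
    congr 2
    have : e - μ ≠ 0 := sub_ne_zero.mpr hem
    rw [ht]; field_simp; ring
  have hwp : w ^ p ∈ M := by
    have : q ⟨w, hwB⟩ ^ p = 1 := by
      rw [hW, (hab _ _).mul_pow, hVp, one_mul]
      show (X ^ t.val) ^ p = 1
      rw [← pow_mul, mul_comm, pow_mul, hXp, one_pow]
    rw [← map_pow] at this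
    exact Subgroup.mem_subgroupOf.mp ((QuotientGroup.eq_one_iff _).mp this)
  have hX0B : M ⊔ Subgroup.zpowers w ≤ B := sup_le h.MB (Subgroup.zpowers_le.mpr hwB)
  haveI := finite_of_le (hX0B.trans h.BS)
  obtain ⟨hX0n, hX0c⟩ := card_sup_zpowers (fun m hm => hBM w hwB m hm) hwp (fun hm => hwA (h.MA hm))
  set X0 := M ⊔ Subgroup.zpowers w with hX0
  have hwX : w ∈ X0 := Subgroup.mem_sup_right (Subgroup.mem_zpowers w)
  have hX0inv : ∀ y ∈ X0, η y ∈ X0 := by
    intro y hy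
    obtain ⟨k, hk⟩ := exists_gen le_sup_left hX0n hX0c hwX (fun hm => hwA (h.MA hm)) y hy
    have hw' : η w ∈ X0 := by
      rw [hψ] at hψW
      have h2 : (pw w e)⁻¹ * η w ∈ M := Subgroup.mem_subgroupOf.mp (QuotientGroup.eq.mp
        (hψW.trans (map_pow q _ _).symm).symm)
      have := X0.mul_mem (pw_mem hwX e) (Subgroup.mem_sup_left h2)
      rwa [mul_inv_cancel_left] at this
    have := X0.mul_mem (X0.pow_mem hw' k) (Subgroup.mem_sup_left (h.Mchar h.iso _ hk))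
    rwa [← h.iso.mor.map_pow hwB, ← h.iso.mor.map_mul (B.pow_mem hwB k) (h.MB hk), mul_inv_cancel_left] at this
  obtain ⟨g, hg, hgX⟩ : ∃ g ∈ normalizerIn S B, X0 = A.map (MulAut.conj g).toMonoidHom :=
    (hT.mid X0 ⟨le_sup_left, hX0B, hX0c⟩).resolve_left fun e => hinv (e ▸ hX0inv)
  -- the image of the fixed subgroup
  have hLm := h.iso.mor.restrict hT.LB
  have hLimg : hLm.img ≤ B := fun y hy => by
    obtain ⟨u, hu, rfl⟩ := hLm.mem_img.mp hy
    exact h.iso.mapsTo (hT.LB hu)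
  haveI := finite_of_le (hLimg.trans h.BS)
  have hMimg : M ≤ hLm.img := fun m hm => by
    have hsur : Iso F η M M := (h.iso.mor.restrict h.MB).iso_of_card (fun u hu => h.Mchar h.iso u hu) le_rfl
    obtain ⟨u, hu, rfl⟩ := hsur.surj hm
    exact hLm.mem_img.mpr ⟨u, hT.ML hu, rfl⟩
  obtain ⟨g', hg', hgY⟩ : ∃ g' ∈ normalizerIn S B, hLm.img = A.map (MulAut.conj g').toMonoidHom :=
    (hT.mid _ ⟨hMimg, hLimg, hLm.toIso.card_eq.symm.trans hT.cardL⟩).resolve_left fun e =>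
      hinv fun y hy => e ▸ hLm.mem_img.mpr ⟨y, hy, rfl⟩
  obtain ⟨η0, hη0, hη0η, -⟩ := h.iso.exists_symm
  have hψ' := ((Iso.conj_self h.BS (inv_mem hg).1 (inv_mem hg).2).comp (Iso.conj_self h.BS hg'.1 hg'.2)).comp hη0
  set φ := η0 ∘ cj g' ∘ cj g⁻¹ with hφ
  have hψiso : Iso F φ B B := hψ'
  have hφX : Iso F φ X0 L := by
    refine (hψiso.mor.restrict hX0B).iso_of_card (fun u hu => ?_) (hT.cardL.trans hX0c.symm).le
    have h1 : cj g⁻¹ u ∈ A := by
      have := map_conj_mem.mp (hgX.le hu)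
      simpa [cj] using this
    have h2 : cj g' (cj g⁻¹ u) ∈ hLm.img := hgY.ge ⟨_, h1, rfl⟩
    obtain ⟨y, hy, hye⟩ := hLm.mem_img.mp h2
    show η0 (cj g' (cj g⁻¹ u)) ∈ L
    rw [← hye, hη0η y (hT.LB hy)]
    exact hy
  obtain ⟨A', M', E', T', Z', η', h', -, hZ', hη'⟩ := h.transport hS hψiso
  haveI : Finite Z := finite_of_le ((h.ZM.trans h.MB).trans h.BS)
  have hZeq : Z' = Z := eq_of_le_of_card (fun v hv => by
    obtain ⟨a, ha, rfl⟩ := (hZ' v).mp hv
    exact h.Zchar hψiso a ha) (h.dat.cardZ.trans h'.dat.cardZ.symm).le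
  obtain ⟨L', hT'⟩ := h'.top hS hlt
  have hLL : L' = L := by rw [hT'.Ldef, hT.Ldef, hZeq]
  subst hLL
  refine ⟨A', M', E', T', Z', φ z, φ x, η', L', h', hT', fun y hy => ?_⟩
  obtain ⟨u, hu, rfl⟩ := hφX.surj hy
  rw [hη' u (hX0B hu)]
  exact hφX.mapsTo (hX0inv u hu)

end Cfsg.Agent.Fusion.RankThree
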