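/-
Self-centralizing elementary abelian subgroups of order p³ in groups of maximal class of order at
least p^(p+2).
-/
import Cfsg.Agent.Fusion.MaxClassPower
set_option autoImplicit false

namespace Cfsg.Agent.Fusion.MaxPow

open Cfsg
open scoped commutatorElement

variable {G : Type*} [Group G] [Finite G] {p : ℕ} [hp : Fact p.Prime] {n : ℕ}

local notation "Γ" => Subgroup.lowerCentralSeries (⊤ : Subgroup G)

variable (h : Mx p n G)
include h

/-- A product of class less than `p` keeps exact powers. -/
theorem Mx.jump {k i : ℕ} (hk : 1 ≤ k) (hki : k ≤ i) (hik : i + 2 ≤ k + p) (hn : k + p + 1 ≤ n)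
    {x b g : G} (hx : x ^ p = 1) (hxi : x ∈ C G i) (hb : b ∈ Γ k) (hb' : b ∉ Γ (k + 1))
    (hg : g * x * g⁻¹ = b * x) : False := by
  have := hp.out.two_le
  set K := Subgroup.zpowers x ⊔ Γ k with hK
  have hKC : K ≤ C G i := sup_le (Subgroup.zpowers_le.2 hxi) ((lcs_mono hk).trans (one_le_C i))
  have hi : ⁅Γ i, K⁆ ≤ Γ (i + 2) := Subgroup.commutator_le.2 fun a ha c hc => mem_C.1 (hKC hc) a ha
  have hj : ∀ j, ⁅Γ j, K⁆ ≤ Γ (j + 1) := fun j => by
    rw [Subgroup.lowerCentralSeries_succ]; exact Subgroup.commutator_mono le_rfl le_top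
  have hone : ⁅K, K⁆ ≤ Γ (k + 1) ∧ (k = i → ⁅K, K⁆ ≤ Γ (k + 2)) :=
    ⟨commutator_sup_le x (hj k), fun e => commutator_sup_le x (by subst e; exact hi)⟩
  have key : ∀ m, K.lowerCentralSeries (m + 1) ≤ Γ (k + m + 1) ∧
      (i < k + m + 1 → K.lowerCentralSeries (m + 1) ≤ Γ (k + m + 2)) := by
    intro m
    induction m with
    | zero =>
      rw [Subgroup.lowerCentralSeries_succ, Subgroup.lowerCentralSeries_zero]
      exact ⟨hone.1, fun hlt => hone.2 (by omega)⟩
    | succ m ih =>
      rw [Subgroup.lowerCentralSeries_succ _ (m + 1)]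
      refine ⟨(Subgroup.commutator_mono ih.1 le_rfl).trans (hj _), fun hlt => ?_⟩
      rcases Nat.lt_or_ge i (k + m + 1) with h1 | h1
      · exact (Subgroup.commutator_mono (ih.2 h1) le_rfl).trans (hj _)
      · obtain rfl : i = k + m + 1 := by omega
        exact (Subgroup.commutator_mono ih.1 le_rfl).trans hi
  have hQ := h.quot (N := k + p) (by omega) (by omega)
  set q := QuotientGroup.mk' (Γ (k + p))
  have hmap : ∀ m, (K.map q).lowerCentralSeries m = (K.lowerCentralSeries m).map q := by
    intro m
    induction m with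
    | zero => rw [Subgroup.lowerCentralSeries_zero, Subgroup.lowerCentralSeries_zero]
    | succ m ih => rw [Subgroup.lowerCentralSeries_succ, Subgroup.lowerCentralSeries_succ, ih, Subgroup.map_commutator]
  have hcl : (K.map q).lowerCentralSeries (p - 1) = ⊥ := by
    rw [hmap, Subgroup.map_eq_bot_iff, QuotientGroup.ker_mk']
    have h2 := (key (p - 2)).2 (by omega)
    rwa [show p - 2 + 1 = p - 1 by omega, show k + (p - 2) + 2 = k + p by omega] at h2
  have hexp : ∀ y ∈ ⁅K.map q, K.map q⁆, y ^ p = 1 := by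
    intro y hy
    rw [← Subgroup.map_commutator] at hy
    obtain ⟨c, hc, rfl⟩ := hy
    exact hQ.exp_high (k + 1) (by omega) (by omega) _ ((mem_quot (by omega)).2 (hone.1 hc))
  have h1 := hall hcl hexp (a := q b) (b := q x) ⟨b, Subgroup.mem_sup_right hb, rfl⟩
    ⟨x, Subgroup.mem_sup_left (Subgroup.mem_zpowers x), rfl⟩
  rw [← map_mul, ← hg, ← map_pow, conj_pow, hx, mul_one, mul_inv_cancel, map_one, ← map_pow, ← map_pow,
    hx, map_one, mul_one] at h1
  exact h.pow_not_mem hk hn hb hb' ((QuotientGroup.eq_one_iff _).1 h1.symm)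

/-- In a group of order at least `p ^ (p + 2)`, elements of order `p` outside `Γ 1` avoid every
two-step centraliser. -/
theorem Mx.notMem_C (hn : p + 2 ≤ n) {x : G} (hx : x ^ p = 1) (hx1 : x ∉ Γ 1) :
    ∀ j, 1 ≤ j → j + 3 ≤ n → x ∉ C G j := by
  have := hp.out.two_le
  intro j
  induction j using Nat.strong_induction_on with
  | _ j ih =>
    intro h1 h3 hj
    rcases Nat.lt_or_ge j p with hjp | hjp
    · have hQ := h.quot (N := 2) le_rfl (by omega)
      obtain ⟨g, hg⟩ : ∃ g : G, ⁅g, x⁆ ∉ Γ 2 := by
        by_contra hno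
        push Not at hno
        refine hx1 ((mem_quot (N := 2) (k := 1) (by omega)).1 ?_)
        have hc := MaxCl.center_eq hQ.card hQ.three hQ.cls
        rw [show 2 + 1 - 2 = 1 from rfl] at hc
        rw [← hc, Subgroup.mem_center_iff]
        intro y
        obtain ⟨g, rfl⟩ := QuotientGroup.mk_surjective y
        rw [← commutatorElement_eq_one_iff_mul_comm, ← QuotientGroup.mk'_apply, ← QuotientGroup.mk'_apply,
          ← map_commutatorElement, QuotientGroup.mk'_apply, QuotientGroup.eq_one_iff]
        exact hno g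
      exact h.jump le_rfl h1 (by omega) (by omega) hx hj
        (by rw [Screen.lcs_one_eq_commutator]; exact Subgroup.commutator_mem_commutator (Subgroup.mem_top g) (Subgroup.mem_top x))
        hg (g := g) (by simp [commutatorElement_def])
    · obtain ⟨k, hk⟩ : ∃ k, j = k + p - 1 := ⟨j + 1 - p, by omega⟩
      obtain ⟨g, hg, hg'⟩ := SetLike.not_le_iff_exists.1 (h.not_le (k := k) (by omega) (by omega))
      have hxk := ih k (by omega) (by omega) (by omega)
      exact h.jump (k := k + 1) (by omega) (by omega) (by omega) (by omega) hx hj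
        (comm_mem hg (mem_zero x) le_rfl) (h.comm_not_mem (by omega) hxk hg hg') (g := g)
        (by simp [commutatorElement_def])

/-- No self-centralizing elementary abelian subgroup of order `p³` with normalizer of order `p⁴`. -/
theorem Mx.no_rank_three (hn : p + 2 ≤ n) (hp5 : 5 ≤ p) {E : Subgroup G} (hE : Nat.card E = p ^ 3)
    (hab : ∀ a ∈ E, ∀ b ∈ E, a * b = b * a) (hexp : ∀ a ∈ E, a ^ p = 1)
    (hself : ∀ a, (∀ e ∈ E, a * e = e * a) → a ∈ E)
    (hN : Nat.card (Subgroup.normalizer (E : Set G)) ≤ p ^ 4) : False := by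
  have htop : E ≠ ⊤ := fun e => by
    rw [e, Subgroup.card_top, h.card] at hE
    have := Nat.pow_right_injective hp.out.two_le hE
    omega
  by_cases hE1 : E ≤ Γ 1
  · have hlow : ∀ k, 1 ≤ k → k + p ≤ n → E ≤ Γ k := by
      intro k hk
      induction k, hk using Nat.le_induction with
      | base => exact fun _ => hE1
      | succ k hk ih =>
        intro hkn e he
        by_contra hne
        exact h.pow_not_mem hk (by omega) (ih (by omega) he) hne (by rw [hexp e he]; exact one_mem _)
    have hE2 := hlow 2 (by omega) (by omega)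
    have hle : Γ (n - 4) ≤ E := fun a ha => hself a fun e he =>
      (commutatorElement_eq_one_iff_mul_comm.1 (h.eq_one le_rfl (comm_mem ha (hE2 he) (by omega))))
    have heq : Γ (n - 4) = E := Subgroup.eq_of_le_of_card_ge hle (by
      rw [hE, h.card_lcs (by omega) (by omega)]
      exact Nat.pow_le_pow_right hp.out.pos (by omega))
    rw [← heq, Subgroup.normalizer_eq_top, Subgroup.card_top, h.card, Nat.pow_le_pow_iff_right hp.out.one_lt] at hN
    omega
  · obtain ⟨x, hxE, hx1⟩ := SetLike.not_le_iff_exists.1 hE1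
    have h2 := h.card_le_mul htop
    have hne : ¬ E ⊓ Γ 1 ≤ Γ (n - 2) := fun hle => by
      have h3 := h2.trans (Nat.mul_le_mul_left p (Subgroup.card_le_of_le hle))
      rw [hE, h.card_lcs (by omega) (by omega), ← pow_succ', Nat.pow_le_pow_iff_right hp.out.one_lt] at h3
      omega
    obtain ⟨y, ⟨hyE, hy1⟩, hy⟩ := SetLike.not_le_iff_exists.1 hne
    have hlev : ∀ j, 1 ≤ j → j + 2 ≤ n → y ∈ Γ j := by
      intro j hj
      induction j, hj using Nat.le_induction with
      | base => exact fun _ => hy1
      | succ j hj ih =>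
        intro hjn
        by_contra hne'
        refine h.comm_not_mem hj (h.notMem_C hn (hexp x hxE) hx1 j hj (by omega)) (ih (by omega)) hne' ?_
        rw [commutatorElement_eq_one_iff_mul_comm.2 (hab y hyE x hxE)]
        exact one_mem _
    exact hy (hlev (n - 2) (by omega) (by omega))

end Cfsg.Agent.Fusion.MaxPow
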