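/-
The next level, when the normalizer fixes the line of the transvections.
-/
import Cfsg.Agent.Fusion.RankThree.Adjust
set_option autoImplicit false

namespace Cfsg.Agent.Fusion.RankThree

open Cfsg Cfsg.FusionSystem
open scoped commutatorElement

variable {Ω : Type*} [Group Ω] {S : Subgroup Ω} {F : FusionSystem S} {p : ℕ} [hp : Fact p.Prime]
  {i : ℕ} {l : ZMod p} {B A M E T Z L : Subgroup Ω} {z x : Ω} {η : Ω → Ω}

omit hp in
theorem comm_pow {H : Type*} [Group H] {u w c : H} (h : ⁅u, w⁆ = c) (hu : Commute u c) (hw : Commute w c)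
    (b : ℕ) : ∀ a : ℕ, ⁅u ^ a, w ^ b⁆ = c ^ (a * b) := by
  have h1 : ∀ m : ℕ, u * w ^ m * u⁻¹ = c ^ m * w ^ m := fun m => by
    rw [← conj_pow, show u * w * u⁻¹ = c * w by rw [← h]; simp [commutatorElement_def, mul_assoc],
      hw.symm.mul_pow]
  have h2 : ∀ a : ℕ, u ^ a * w ^ b * (u ^ a)⁻¹ = c ^ (a * b) * w ^ b := by
    intro a
    induction a with
    | zero => simp
    | succ a ih =>
      calc u ^ (a + 1) * w ^ b * (u ^ (a + 1))⁻¹ = u * (u ^ a * w ^ b * (u ^ a)⁻¹) * u⁻¹ := by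
            rw [pow_succ']; group
        _ = (u * c ^ (a * b) * u⁻¹) * (u * w ^ b * u⁻¹) := by rw [ih]; group
        _ = _ := by rw [(hu.pow_right _).eq, mul_inv_cancel_right, h1, ← mul_assoc, ← pow_add]; ring_nf
  intro a
  rw [commutatorElement_def, h2, mul_inv_cancel_right]

omit hp in
theorem comm_mul_right_commute {H : Type*} [Group H] {u b w : H} (h : Commute b w) : ⁅u * b, w⁆ = ⁅u, w⁆ := by
  rw [commutatorElement_def, commutatorElement_def, show u * b * w * (u * b)⁻¹ = u * (b * w * b⁻¹) * u⁻¹ by group,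
    h.eq, mul_inv_cancel_right]

theorem triv_conj {B : Subgroup Ω} [Finite B] {K L : Subgroup Ω} {α : MulAut B}
    (hK : ∀ b : B, (b : Ω) ∈ K → ((α b : B) : Ω) ∈ K) (hL : ∀ b : B, (b : Ω) ∈ L → ((α b : B) : Ω) ∈ L)
    {k : MulAut B} (hk : k ∈ triv K L) : α * k * α⁻¹ ∈ triv K L := by
  haveI := finite_mulAut (G := B)
  obtain ⟨m, hm⟩ := (isOfFinOrder_of_finite α).mem_powers_iff_mem_zpowers.mpr (inv_mem (Subgroup.mem_zpowers α))
  have hinv : ∀ b : B, (b : Ω) ∈ K → ((α⁻¹ b : B) : Ω) ∈ K := by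
    intro b hb
    rw [← hm]
    clear hm
    induction m with
    | zero => exact hb
    | succ m ih =>
      show (((α ^ (m + 1)) b : B) : Ω) ∈ K
      rw [pow_succ', MulAut.mul_apply]
      exact hK _ ih
  intro b hb
  have hb0 := hinv b hb
  obtain ⟨h1, h2⟩ := hk (α⁻¹ b) hb0
  refine ⟨hK _ h1, ?_⟩
  have h3 := hL ((α⁻¹ b)⁻¹ * k (α⁻¹ b)) h2
  rw [map_mul, map_inv, MulAut.apply_inv_self] at h3
  exact h3

theorem Lev.bound_of_lev (h : Lev F p i l B A M E T Z z x η) [Finite S] (hS : IsPGroup p S) :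
    NBound F p B (4 + i) := by
  intro B' g hg
  obtain ⟨A', M', E', T', Z', η', h', -, -, -⟩ := h.transport hS hg
  refine (normalizer_bound hS h'.BS h'.MA h'.AB h'.cardA h'.cardB' h'.normM (by rw [h'.normA])).trans_eq ?_
  rw [h'.cardB, ← pow_succ']
  congr 1
  omega

theorem Lev.next (h : Lev F p i l B A M E T Z z x η) [Finite S] (hS : IsPGroup p S) (hF : F.IsSaturated p)
    (hfn : F.IsFullyNormalized B) (hl : l ≠ 0) (hli : l ^ (i + 1) ≠ 1) (hT : Top S p i B A M Z L x)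
    (hinv : ∀ y ∈ L, η y ∈ L) (hz : ∀ y ∈ normalizerIn S B, y * z = z * y) :
    ∃ η', Lev F p (i + 1) l (normalizerIn S B) B L E T Z z x η' := by
  classical
  haveI := finite_of_le h.BS
  haveI := finite_of_le (h.AB.trans h.BS)
  haveI := finite_mulAut (G := B)
  haveI : Finite L := finite_of_le (hT.LB.trans h.BS)
  haveI : Finite M := finite_of_le (h.MB.trans h.BS)
  haveI : Finite (normalizerIn S B) := finite_of_le normalizerIn_le
  set N := normalizerIn S B with hN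
  have hBN : B ≤ N := le_normalizerIn h.BS
  have hBn : Nrm N B := fun g hg b hb => (cj_mem_iff hg.2 b).mpr hb
  have hxB : x ∈ B := h.AB h.xA
  have hZB : Z ≤ B := h.ZM.trans h.MB
  have hzB : z ∈ B := hZB h.dat.zZ
  have hzp : z ^ p = 1 := h.dat.exp z (h.dat.ZE h.dat.zZ)
  have hzo : Nat.card (Subgroup.zpowers z) = p := by rw [Nat.card_zpowers, orderOf_eq_prime hzp h.dat.z_ne]
  have hzz : Subgroup.zpowers z ≤ B := Subgroup.zpowers_le.mpr hzB
  have hzN : ∀ g ∈ N, ∀ k ∈ Subgroup.zpowers z, g * k * g⁻¹ = k := by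
    intro g hg k hk
    obtain ⟨m, rfl⟩ := exists_pw hzp hk
    rw [conj_pw, hz g hg, mul_inv_cancel_right]
  have hNc : Nat.card N = p * Nat.card B := by rw [hT.cardN, h.cardB, ← pow_succ']; congr 1; omega
  have hBL : Nat.card B = p * Nat.card L := by rw [hT.cardL, h.cardB']; ring
  have hBLn : Nrm B L := fun g hg => hT.nrmL g (hBN hg)
  have hNM : Nrm N M := h.normM
  -- the automorphisms trivial on the sections
  let K : Subgroup (MulAut B) := F.autGroup B ⊓ (triv B L ⊓ (triv L M ⊓ (triv (Subgroup.zpowers z) ⊥ ⊓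
    triv Z (Subgroup.zpowers z))))
  have hRK : autInducedBy S B ≤ K := le_inf (autInducedBy_le_autGroup h.BS) <|
    le_inf (mem_triv hS hT.LB le_rfl hBn hT.nrmL hBL.le) <|
    le_inf (mem_triv hS hT.ML hT.LB hT.nrmL hNM hT.cardL.le) <|
    le_inf (mem_triv hS bot_le hzz (fun g hg k hk => (hzN g hg k hk).symm ▸ hk)
      (fun g hg k hk => by rw [Subgroup.mem_bot.mp hk]; simp) (by rw [hzo, Subgroup.card_bot, mul_one])) <|
    mem_triv hS (Subgroup.zpowers_le.mpr h.dat.zZ) hZB h.normZ (fun g hg k hk => (hzN g hg k hk).symm ▸ hk)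
      (by rw [h.dat.cardZ, hzo, sq])
  let α : MulAut B := h.iso.equiv
  have hα : ∀ b : B, ((α b : B) : Ω) = η b := fun _ => rfl
  have hαz : ∀ b : B, (b : Ω) ∈ Subgroup.zpowers z → ((α b : B) : Ω) ∈ Subgroup.zpowers z := by
    intro b hb
    obtain ⟨m, hm⟩ := exists_pw hzp hb
    rw [hα, hm, mor_map_pw h.iso.mor hzB, h.ηz]
    exact pw_mem (pw_mem (Subgroup.mem_zpowers z) _) _
  have hαK : ∀ k ∈ K, α * k * α⁻¹ ∈ K := by
    rintro k ⟨k0, k1, k2, k3, k4⟩
    exact ⟨(F.autGroup B).mul_mem ((F.autGroup B).mul_mem h.iso.equiv_mem_autGroup k0)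
        ((F.autGroup B).inv_mem h.iso.equiv_mem_autGroup),
      triv_conj (fun b _ => (α b).2) (fun b hb => hinv _ hb) k1,
      triv_conj (fun b hb => hinv _ hb) (fun b hb => h.Mchar h.iso _ hb) k2,
      triv_conj hαz (fun b hb => by
        rw [Subgroup.mem_bot] at hb ⊢
        rw [hα, hb, h.iso.mor.map_one]) k3,
      triv_conj (fun b hb => h.Zchar h.iso _ hb) hαz k4⟩
  -- Frattini argument
  obtain ⟨-, hA, hrec⟩ := IsSaturated_fullyNormalized hS hF hfn
  have hidx : ¬ p ∣ (autInducedBy S B).relIndex K := fun hd => ((fullyAutomized_iff hS).mp hA).2 <|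
    hd.trans (Dvd.intro _ (Subgroup.relIndex_mul_relIndex _ K (F.autGroup B) hRK inf_le_left))
  have hAp := isPGroup_autInducedBy hS B
  obtain ⟨k, hk, hkR⟩ := exists_conj_le_of_sylow hRK hAp hidx
    (R := (autInducedBy S B).map (MulAut.conj α).toMonoidHom)
    (by rintro _ ⟨r, hr, rfl⟩; exact hαK r (hRK hr)) (hAp.map _)
  set β := k * α with hβ
  have hβR : ∀ r ∈ autInducedBy S B, β * r * β⁻¹ ∈ autInducedBy S B := by
    intro r hr
    have := hkR _ ⟨r, hr, rfl⟩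
    simpa [cj, hβ, mul_assoc] using this
  -- fix `A`
  obtain ⟨f0, hf0, hf0e⟩ := (mem_autGroup_iff h.BS).mp (mul_mem hk.1 h.iso.equiv_mem_autGroup : β ∈ F.autGroup B)
  have hk1 : ∀ u ∈ L, ∀ hu : u ∈ B, ((k ⟨u, hu⟩ : B) : Ω) ∈ L := fun u hu hu' => (hk.2.2.1 ⟨u, hu'⟩ hu).1
  have hf0L : ∀ u ∈ L, f0 u ∈ L := fun u hu => by
    rw [hf0e ⟨u, hT.LB hu⟩, MulAut.mul_apply]
    exact hk1 _ (hinv u hu) _
  have hAm := hf0.mor.restrict h.AB
  have hLiso : Iso F f0 L L := (hf0.mor.restrict hT.LB).iso_of_card hf0L le_rfl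
  have hMiso : Iso F f0 M M := (hf0.mor.restrict h.MB).iso_of_card (fun u hu => h.Mchar hf0 u hu) le_rfl
  obtain ⟨g, hg, hgX⟩ : ∃ g ∈ N, hAm.img = A.map (MulAut.conj g).toMonoidHom := by
    refine (hT.mid _ ⟨fun m hm => ?_, fun y hy => ?_, hAm.toIso.card_eq.symm.trans h.cardA⟩).resolve_left fun e => ?_
    · obtain ⟨u, hu, rfl⟩ := hMiso.surj hm
      exact hAm.mem_img.mpr ⟨u, h.MA hu, rfl⟩
    · obtain ⟨u, hu, rfl⟩ := hAm.mem_img.mp hy
      exact hf0.mapsTo (h.AB hu)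
    · obtain ⟨u, hu, hue⟩ := hLiso.surj (e ▸ hAm.mem_img.mpr ⟨x, h.xA, rfl⟩)
      exact hT.xL (hf0.mor.injOn (hT.LB hu) hxB hue ▸ hu)
  obtain ⟨γ, hγR, hγ⟩ : ∃ γ ∈ autInducedBy S B, ∀ b : B, ((γ b : B) : Ω) = cj g⁻¹ b :=
    ⟨actHom S B ⟨g⁻¹, inv_mem hg⟩, (range_actHom S B).le ⟨_, rfl⟩, fun b => rfl⟩
  set k' := γ * k with hk'
  have hk'K : k' ∈ K := mul_mem (hRK hγR) hk
  set η1 : Ω → Ω := cj g⁻¹ ∘ f0 with hη1
  have hη1iso : Iso F η1 B B := hf0.comp (Iso.conj_self h.BS (inv_mem hg).1 (inv_mem hg).2)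
  have hη1k : ∀ (u : Ω) (hu : u ∈ B), η1 u = ((k' ⟨η u, h.iso.mapsTo hu⟩ : B) : Ω) := fun u hu => by
    show cj g⁻¹ (f0 u) = _
    rw [hf0e ⟨u, hu⟩]
    exact (hγ _).symm
  have hη1A : ∀ a ∈ A, η1 a ∈ A := fun a ha => by
    have := map_conj_mem.mp (hgX.le (hAm.mem_img.mpr ⟨a, ha, rfl⟩))
    simpa [hη1, cj] using this
  -- extend
  have hnphi : N ≤ nphi S B η1 := by
    intro y hy
    obtain ⟨y', hy', -, hye⟩ := mem_autInducedBy.mp (hβR _ ((range_actHom S B).le ⟨⟨y, hy⟩, rfl⟩))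
    refine mem_nphi.mpr ⟨hy.1, hy.2, g⁻¹ * y' * g, S.mul_mem (S.mul_mem (S.inv_mem hg.1) hy') hg.1, fun e he => ?_⟩
    have h1 := hye (β ⟨e, he⟩)
    rw [MulAut.mul_apply, MulAut.mul_apply, MulAut.inv_apply_self, ← hf0e, ← hf0e] at h1
    show cj g⁻¹ (f0 (cj y e)) = cj (g⁻¹ * y' * g) (cj g⁻¹ (f0 e))
    rw [show cj (g⁻¹ * y' * g) (cj g⁻¹ (f0 e)) = cj g⁻¹ (cj y' (f0 e)) by simp [cj, mul_assoc]]
    exact congrArg _ h1
  obtain ⟨η', hη', hee⟩ := (receptive_iff.mp hrec).2 B η1 hη1iso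
  have hmN : Mor F N η' := hη'.restrict hnphi
  have hiso : Iso F η' N N := hmN.iso_of_card (fun y hy => hη1iso.map_normalizer hmN hBN hee hy hy.2) le_rfl
  have heq : ∀ (u : Ω) (hu : u ∈ B), η' u = ((k' ⟨η u, h.iso.mapsTo hu⟩ : B) : Ω) := fun u hu => by
    rw [hee u hu, hη1k u hu]
  have key : ∀ {P Q : Subgroup Ω} {e : ZMod p}, P ≤ B → k' ∈ triv P Q → (∀ u ∈ P, η u ∈ P) → Ex η P Q e →
      (∀ u ∈ P, η' u ∈ P) ∧ Ex η' P Q e := by
    intro P Q e hP hkt hPη hex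
    have hm : ∀ u (hu : u ∈ P), ((k' ⟨η u, h.iso.mapsTo (hP hu)⟩ : B) : Ω) ∈ P ∧
        (η u)⁻¹ * ((k' ⟨η u, h.iso.mapsTo (hP hu)⟩ : B) : Ω) ∈ Q := fun u hu => hkt _ (hPη u hu)
    refine ⟨fun u hu => by rw [heq u (hP hu)]; exact (hm u hu).1, fun u hu => ?_⟩
    rw [heq u (hP hu)]
    have := Q.mul_mem (hex u hu) (hm u hu).2
    simpa [mul_assoc] using this
  obtain ⟨-, hk'1, hk'2, hk'3, hk'4⟩ := hk'K
  -- exponents on the sections
  have hgenB := exists_gen hT.LB hBLn hBL hxB hT.xL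
  have hBL' : Ex η B L l⁻¹ := Ex.of_gen hBLn hxB hgenB h.iso.mor (fun y hy => h.iso.mapsTo hy) hinv
    (hT.ML (h.exA x h.xA))
  obtain ⟨v, hvL, hvM⟩ := SetLike.exists_of_lt (lt_of_le_of_ne hT.ML fun e => by
    have := hT.cardL; rw [← e] at this
    have := hp.out.two_le; have : 0 < Nat.card M := Nat.card_pos
    nlinarith)
  have hLMn : Nrm L M := fun u hu => hNM u (hBN (hT.LB hu))
  have hLM' : Ex η L M (l ^ (i + 1)) := Ex.of_gen hLMn hvL (exists_gen hT.ML hLMn hT.cardL hvL hvM)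
    (h.iso.mor.restrict hT.LB) hinv (fun y hy => h.Mchar h.iso y hy)
    (hT.inf.le ⟨h.exB v (hT.LB hvL), L.mul_mem (L.inv_mem (pw_mem hvL _)) (hinv v hvL)⟩)
  obtain ⟨-, hexA⟩ := key le_rfl hk'1 (fun u hu => h.iso.mapsTo hu) hBL'
  obtain ⟨hη'L, hexL⟩ := key hT.LB hk'2 hinv hLM'
  obtain ⟨-, hexZ⟩ := key hZB hk'4 (h.Zchar h.iso) h.exZ
  have hη'z : η' z = pw z l := by
    rw [heq z hzB]
    have := (hk'3 ⟨η z, h.iso.mapsTo hzB⟩ (by show η z ∈ _; rw [h.ηz]; exact pw_mem (Subgroup.mem_zpowers z) _)).2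
    rw [Subgroup.mem_bot, inv_mul_eq_one] at this
    exact this.symm.trans h.ηz
  have hη'B : ∀ u ∈ B, η' u ∈ B := fun u hu => by rw [hee u hu]; exact hη1iso.mapsTo hu
  have hη'M : ∀ u ∈ M, η' u ∈ M := fun u hu => by rw [hee u (h.MB hu)]; exact h.Mchar hη1iso u hu
  -- the exponent on `N / B`
  obtain ⟨y, hy, hyB⟩ : ∃ y ∈ N, y ∉ B := SetLike.exists_of_lt (lt_of_le_of_ne hBN fun e => by
    rw [← e] at hNc
    have := hp.out.two_le; have : 0 < Nat.card B := Nat.card_pos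
    nlinarith)
  obtain ⟨j, hj⟩ := exists_gen hBN hBn hNc hy hyB (η' y) (hiso.mapsTo hy)
  haveI := hNM.normal
  let q := QuotientGroup.mk' (M.subgroupOf N)
  have hq1 : ∀ u : N, q u = 1 ↔ (u : Ω) ∈ M := fun u =>
    (QuotientGroup.eq_one_iff _).trans Subgroup.mem_subgroupOf
  have hcom : ∀ u ∈ B, ∀ w ∈ B, ⁅u, w⁆ ∈ M := fun u hu w hw => h.commM (Subgroup.commutator_mem_commutator hu hw)
  have hcBq : ∀ u w : N, (u : Ω) ∈ B → (w : Ω) ∈ B → Commute (q u) (q w) := fun u w hu hw => by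
    rw [← commutatorElement_eq_one_iff_commute, ← map_commutatorElement, hq1]
    exact hcom _ hu _ hw
  let u : N := ⟨y, hy⟩
  let w : N := ⟨x, hBN hxB⟩
  have hcL : ((⁅u, w⁆ : N) : Ω) ∈ L := by
    rw [hT.Ldef]
    exact Subgroup.mem_sup_left (Subgroup.commutator_mem_commutator hy (hBN hxB))
  have hcM : ((⁅u, w⁆ : N) : Ω) ∉ M := fun hm => hyB <| by
    rw [← h.normA]
    refine ⟨hy.1, Subgroup.mem_normalizer_fintype fun a ha => ?_⟩
    obtain ⟨m, hm'⟩ := exists_gen h.MA h.nrmAM h.cardA h.xA h.xM a ha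
    have h1 : y * x * y⁻¹ ∈ A := by
      have := A.mul_mem (h.MA hm) h.xA
      simpa [u, w, commutatorElement_def] using this
    have := A.mul_mem (A.pow_mem h1 m) (h.MA (hNM y hy _ hm'))
    rw [conj_pow] at this
    rwa [show y * x ^ m * y⁻¹ * (y * ((x ^ m)⁻¹ * a) * y⁻¹) = y * a * y⁻¹ by group] at this
  set c := q ⁅u, w⁆ with hc
  have hcp : c ^ p = 1 := by
    rw [hc, ← map_pow, hq1]
    exact pow_prime_mem hT.ML hLMn hT.cardL hcL
  have hc1 : c ≠ 1 := fun e => hcM ((hq1 _).mp e)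
  have hcN : ∀ v : N, Commute (q v) c := fun v => by
    rw [hc, ← commutatorElement_eq_one_iff_commute, ← map_commutatorElement, hq1]
    obtain ⟨-, ht⟩ := ((hRK ((range_actHom S B).le ⟨⟨(v : Ω), v.2⟩, rfl⟩)).2.2.1) ⟨_, hT.LB hcL⟩ hcL
    have ht' := hNM _ (hBN (hT.LB hcL)) _ ht
    rw [actHom_apply] at ht'
    simpa [cj, commutatorElement_def, mul_assoc] using ht'
  let ηN : N →* N := hiso.equiv.toMonoidHom
  have hηN : ∀ v : N, ((ηN v : N) : Ω) = η' v := fun _ => rfl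
  have hkey : (j : ZMod p) = l ^ (i + 2) := by
    have hqw : q (ηN w) = q w ^ (l⁻¹ : ZMod p).val := by
      rw [← map_pow]
      refine (QuotientGroup.eq.mpr (Subgroup.mem_subgroupOf.mpr ?_)).symm
      show (pw x l⁻¹)⁻¹ * η' x ∈ M
      have h1 : (pw x l⁻¹)⁻¹ * η' x ∈ L := hexA x hxB
      have h2 : η' x ∈ A := by rw [hee x hxB]; exact hη1A x h.xA
      exact hT.inf.le ⟨A.mul_mem (A.inv_mem (pw_mem h.xA _)) h2, h1⟩
    have hqc : q (ηN ⁅u, w⁆) = c ^ (l ^ (i + 1)).val := by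
      rw [hc, ← map_pow]
      exact (QuotientGroup.eq.mpr (Subgroup.mem_subgroupOf.mpr (hexL _ hcL))).symm
    let b : N := (u ^ j)⁻¹ * ηN u
    have hb : (b : Ω) ∈ B := hj
    have hu' : q (ηN u) = q u ^ j * q b := by rw [← map_pow, ← map_mul, mul_inv_cancel_left]
    rw [map_commutatorElement, map_commutatorElement, hu', hqw,
      comm_mul_right_commute ((hcBq b w hb hxB).pow_right _),
      comm_pow (map_commutatorElement q u w).symm (hcN u) (hcN w), ← hc] at hqc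
    rw [pow_eq_pw hcp] at hqc
    have h3 := pw_inj hcp hc1 hqc
    push_cast at h3
    rw [ZMod.natCast_zmod_val] at h3
    rw [pow_succ l (i + 1), ← h3]
    field_simp
  have hexB : Ex η' N B (l ^ (i + 2)) := by
    refine Ex.of_gen hBn hy (exists_gen hBN hBn hNc hy hyB) hmN (fun u hu => hiso.mapsTo hu) hη'B ?_
    rw [← hkey]
    have h1 : y ^ j = y ^ (j % p) * (y ^ p) ^ (j / p) := by rw [← pow_mul, ← pow_add, Nat.mod_add_div]
    show (y ^ (j : ZMod p).val)⁻¹ * η' y ∈ B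
    rw [ZMod.val_natCast]
    have h2 := B.mul_mem (B.pow_mem (pow_prime_mem hBN hBn hNc hy) (j / p)) hj
    rw [h1] at h2
    simpa [mul_assoc] using h2
  -- the centre stays central
  have hzc : ∀ v ∈ N, Commute v z := hz
  have hcent : ∀ e ∈ Z, ∀ b ∈ N, b * e = e * b := by
    obtain ⟨c0, hc0, hc0z⟩ := SetLike.exists_of_lt (lt_of_le_of_ne (Subgroup.zpowers_le.mpr h.dat.zZ) fun e => by
      rw [e] at hzo
      have := h.dat.cardZ.symm.trans hzo
      have := hp.out.two_le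
      nlinarith)
    obtain ⟨γ', hγ'⟩ : ∃ γ' : ZMod p, y * c0 * y⁻¹ * c0⁻¹ = pw z γ' := by
      refine exists_pw hzp ?_
      obtain ⟨-, ht⟩ := ((hRK ((range_actHom S B).le ⟨⟨y, hy⟩, rfl⟩)).2.2.2.2) ⟨c0, hZB hc0⟩ hc0
      rw [actHom_apply] at ht
      have := h.dat.comm _ (h.dat.ZE hc0) _ (h.dat.ZE (Subgroup.zpowers_le.mpr h.dat.zZ ht))
      simp only [cj] at ht this
      rw [mul_inv_cancel_left] at this
      rw [this, mul_inv_cancel_right]
      exact ht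
    have hyc : y * c0 = c0 * y := by
      have hcy : ∀ m : ZMod p, Commute y (pw z m) := fun m => (hzc y hy).pow_right _
      have hcc : ∀ m : ZMod p, Commute c0 (pw z m) := fun m => h.dat.comm _ (h.dat.ZE hc0) _ (pw_mem (h.dat.ZE h.dat.zZ) m)
      set d := (pw c0 (1 : ZMod p))⁻¹ * η' c0 with hd
      have hd' : d ∈ Subgroup.zpowers z := hexZ c0 hc0
      obtain ⟨τ, hτ⟩ := exists_pw hzp hd'
      have hw' : η' c0 = c0 * pw z τ := by rw [← hτ, hd, pw_one, mul_inv_cancel_left]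
      set b := (y ^ j)⁻¹ * η' y with hb
      have hbc : ∀ e ∈ Z, Commute b e := fun e he => h.cent e he b hj
      have hcm : ⁅y, c0⁆ = pw z γ' := hγ'
      have h1 := congrArg η' hcm
      rw [mor_map_pw hmN (hBN hzB), hη'z, commutatorElement_def,
        hmN.map_mul (N.mul_mem (N.mul_mem hy (hBN (hZB hc0))) (N.inv_mem hy)) (N.inv_mem (hBN (hZB hc0))),
        hmN.map_conj hy (hBN (hZB hc0)), hmN.map_inv (hBN (hZB hc0)), ← commutatorElement_def, hw',
        show η' y = y ^ j * b by rw [hb, mul_inv_cancel_left],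
        comm_mul_right_commute (hbc _ (Z.mul_mem hc0 (pw_mem h.dat.zZ τ)))] at h1
      have hs : ⁅y ^ j, c0 * pw z τ⁆ = ⁅y ^ j, c0⁆ := by
        rw [commutatorElement_def, commutatorElement_def,
          show y ^ j * (c0 * pw z τ) * (y ^ j)⁻¹ = (y ^ j * c0 * (y ^ j)⁻¹) * (y ^ j * pw z τ * (y ^ j)⁻¹) by group,
          ((hcy τ).pow_left j).eq, mul_inv_cancel_right, mul_inv_rev]
        group
      rw [hs] at h1
      have h2 := comm_pow hcm (hcy γ') (hcc γ') 1 j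
      rw [pow_one, mul_one] at h2
      rw [h2, pow_eq_pw (by rw [pw, ← pow_mul, mul_comm, pow_mul, hzp, one_pow]), hkey, ← pw_mul hzp, ← pw_mul hzp] at h1
      have h3 := pw_inj hzp h.dat.z_ne h1
      have h4 : γ' = 0 := by
        have h5 : γ' * (l * (l ^ (i + 1) - 1)) = 0 := by rw [pow_succ] at h3; linear_combination h3
        rcases mul_eq_zero.mp h5 with h6 | h6
        · exact h6
        · rcases mul_eq_zero.mp h6 with h7 | h7
          · exact absurd h7 hl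
          · exact absurd (sub_eq_zero.mp h7) hli
      rw [h4, show pw z (0 : ZMod p) = 1 by simp [pw], commutatorElement_eq_one_iff_mul_comm] at hcm
      exact hcm
    intro e he b hb
    have hzn : Nrm Z (Subgroup.zpowers z) := fun k hk v hv => by
      rw [h.dat.comm k (h.dat.ZE hk) v (h.dat.ZE (Subgroup.zpowers_le.mpr h.dat.zZ hv)), mul_inv_cancel_right]
      exact hv
    haveI : Finite Z := finite_of_le (hZB.trans h.BS)
    obtain ⟨m, hm⟩ := exists_gen (Subgroup.zpowers_le.mpr h.dat.zZ) hzn (by rw [h.dat.cardZ, hzo, sq]) hc0 hc0z e he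
    obtain ⟨s, hs⟩ := exists_pw hzp hm
    obtain ⟨r, hr⟩ := exists_gen hBN hBn hNc hy hyB b hb
    have hbe : Commute b c0 := by
      have := ((show Commute y c0 from hyc).pow_left r).mul_left (show Commute _ c0 from h.cent c0 hc0 _ hr)
      rwa [mul_inv_cancel_left] at this
    have := (hbe.pow_right m).mul_right (show Commute b (pw z s) from (hzc b hb).pow_right _)
    rwa [← hs, mul_inv_cancel_left] at this
  obtain ⟨f, h0, h1, hi, hi1, hcard, hf⟩ := h.chain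
  refine ⟨η', h.dat, by omega, ⟨fun k => if k ≤ i then f k else N, ?_, ?_, ?_, ?_, ?_, ?_⟩, hiso, hT.LB, ?_,
    h.ZM.trans hT.ML, ?_, hT.Ldef.le, hT.xL, hcent, hη'B, hη'z, hexA, hexB, hexZ⟩
  · simpa using h0
  · simpa [h.one_le] using h1
  · simp
  · simpa using hi
  · intro k hk
    by_cases hki : k ≤ i
    · simpa [hki] using hcard k hki
    · simp only [hki, if_false]
      rw [hT.cardN]; congr 1; omega
  · intro k hk
    rcases Nat.lt_or_ge k i with hki | hki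
    · simpa [hki.le, Nat.succ_le_of_lt hki] using hf k hki
    · obtain rfl : k = i := by omega
      simp only [le_rfl, if_true, Nat.not_succ_le_self, if_false, hi]
      exact ⟨hBN, hBn, h.bound_of_lev hS⟩
  · rw [hT.cardL, h.cardM, ← pow_succ']; congr 1
  · exact hT.Ldef ▸ le_sup_left

end Cfsg.Agent.Fusion.RankThree
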