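/-
The pairing of the lower central series into the centre of a group of maximal class.
-/
import Cfsg.Agent.Fusion.MaxClassPower
set_option autoImplicit false

namespace Cfsg.Agent.Fusion.MaxPow

open Cfsg
open scoped commutatorElement

variable {G : Type*} [Group G] [Finite G] {p : ℕ} [hp : Fact p.Prime] {n : ℕ}

local notation "Γ" => Subgroup.lowerCentralSeries (⊤ : Subgroup G)

variable (h : Mx p n G)
include h

/-- If the group is not of odd order exponent, the first term pairs nontrivially. -/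
theorem Mx.rotate (hn : 5 ≤ n) {x a y : G} (hx : ∀ u ∈ Γ (n - 3), x * u = u * x) (ha : a ∈ Γ (n - 4))
    (hne : ⁅⁅a, x⁆, y⁆ ≠ 1) : ∃ r ∈ Γ 1, ⁅r, a⁆ ≠ 1 := by
  by_contra hno
  push Not at hno
  refine hne (Subgroup.mem_bot.1 ?_)
  rw [← Subgroup.commutator_commutator_eq_bot_of_rotate (H₁ := Subgroup.zpowers a) (H₂ := Subgroup.zpowers x)
    (H₃ := Subgroup.zpowers y) ?_ ?_]
  · exact Subgroup.commutator_mem_commutator
      (Subgroup.commutator_mem_commutator (Subgroup.mem_zpowers a) (Subgroup.mem_zpowers x))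
      (Subgroup.mem_zpowers y)
  · rw [eq_bot_iff, Subgroup.commutator_le]
    intro r hr b hb
    obtain ⟨i, rfl⟩ := Subgroup.mem_zpowers_iff.1 hb
    refine Subgroup.mem_bot.2 (commutatorElement_eq_one_iff_mul_comm.2 ?_)
    refine ((show Commute r a from commutatorElement_eq_one_iff_mul_comm.1 (hno r ?_)).zpow_right i).eq
    rw [Screen.lcs_one_eq_commutator]
    exact Subgroup.commutator_mono le_top le_top hr
  · rw [eq_bot_iff, Subgroup.commutator_le]
    intro r hr b hb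
    obtain ⟨i, rfl⟩ := Subgroup.mem_zpowers_iff.1 hb
    have hr' : r ∈ Γ (n - 3) := by
      refine (Subgroup.commutator_le.2 fun u hu v hv => ?_) hr
      exact comm_mem (mem_zero u) (Subgroup.zpowers_le.2 ha hv) (by omega)
    exact Subgroup.mem_bot.2 (commutatorElement_eq_one_iff_mul_comm.2
      ((show Commute r x from (hx r hr').symm).zpow_right i).eq)

/-- For odd `n` the pairing is trivial. -/
theorem Mx.pairing (hodd : n % 2 = 1) (hn : 5 ≤ n) {x : G} (hx : ∀ u ∈ Γ (n - 3), x * u = u * x)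
    (hC : ∀ j, 1 ≤ j → j + 4 ≤ n → x ∉ C G j) : ∀ r ∈ Γ 1, ∀ a ∈ Γ (n - 4), ⁅r, a⁆ = 1 := by
  obtain ⟨m, rfl⟩ : ∃ m, n = 2 * m + 3 := ⟨(n - 3) / 2, by omega⟩
  suffices key : ∀ d, d < m → ∀ g ∈ Γ (m - d), ∀ v ∈ Γ (m + d), ⁅g, v⁆ = 1 by
    intro r hr a ha
    refine key (m - 1) (by omega) r (by rwa [show m - (m - 1) = 1 by omega]) a ?_
    rwa [show m + (m - 1) = 2 * m + 3 - 4 by omega]
  intro d
  induction d with
  | zero =>
    intro _ g hg v hv
    refine h.eq_one le_rfl ?_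
    rw [show 2 * m + 3 - 1 = 2 * m + 2 by omega]
    exact h.comm_self (by omega) (Subgroup.commutator_mem_commutator hg hv)
  | succ d ih =>
    intro hd g hg v hv
    obtain ⟨k, hk⟩ : ∃ k, k = m + d := ⟨_, rfl⟩
    obtain ⟨u, hu, hu'⟩ := SetLike.not_le_iff_exists.1 (h.not_le (k := k) (by omega) (by omega))
    set g1 := g⁻¹ * x * g * x⁻¹ with hg1
    set u1 := u⁻¹ * x * u * x⁻¹ with hu1
    have hg1m : g1 ∈ Γ (m - (d + 1) + 1) := by
      rw [show g1 = ⁅g⁻¹, x⁆ by simp [hg1, commutatorElement_def]]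
      exact comm_mem (inv_mem hg) (mem_zero x) le_rfl
    have hu1m : u1 ∈ Γ (k + 1) := by
      rw [show u1 = ⁅u⁻¹, x⁆ by simp [hu1, commutatorElement_def]]
      exact comm_mem (inv_mem hu) (mem_zero x) le_rfl
    have hu1' : u1 ∉ Γ (k + 2) := by
      rw [show u1 = ⁅u⁻¹, x⁆ by simp [hu1, commutatorElement_def]]
      exact h.comm_not_mem (by omega) (hC k (by omega) (by omega)) (inv_mem hu) (by rwa [inv_mem_iff])
    have e0 : ⁅g, u⁆ ∈ Γ (2 * m + 3 - 3) := comm_mem hg hu (by omega)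
    have e1 : ⁅g1, u⁆ = 1 := ih (by omega) g1 (by rwa [show m - d = m - (d + 1) + 1 by omega]) u (by rwa [← hk])
    have e2 : ⁅g1, u1⁆ = 1 := h.eq_one le_rfl (comm_mem hg1m hu1m (by omega))
    have e3 : ∀ w, Commute w ⁅g, u1⁆ := h.central_top (comm_mem hg hu1m (by omega))
    have e4 : x * ⁅g, u⁆ * x⁻¹ = ⁅g * g1, u * u1⁆ := by
      simp [hg1, hu1, commutatorElement_def, mul_assoc]
    rw [hx _ e0, mul_inv_cancel_right] at e4
    have e5 : ⁅g * g1, u * u1⁆ = g * ⁅g1, u * u1⁆ * g⁻¹ * ⁅g, u * u1⁆ := by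
      simp [commutatorElement_def, mul_assoc]
    have e6 : ⁅g1, u * u1⁆ = ⁅g1, u⁆ * (u * ⁅g1, u1⁆ * u⁻¹) := by
      simp [commutatorElement_def, mul_assoc]
    have e7 : ⁅g, u * u1⁆ = ⁅g, u⁆ * (u * ⁅g, u1⁆ * u⁻¹) := by
      simp [commutatorElement_def, mul_assoc]
    rw [e5, e6, e7, e1, e2, (e3 u).eq, mul_inv_cancel_right] at e4
    have e8 : ⁅g, u1⁆ = 1 := by simpa using e4
    have hD : Γ (k + 1) ≤ Subgroup.centralizer {g} := by
      refine h.lvl (by omega) (fun w hw => ?_) (x := u1) ?_ hu1m hu1'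
      · refine Subgroup.mem_centralizer_singleton_iff.2 (commutatorElement_eq_one_iff_mul_comm.1 ?_).symm
        exact h.eq_one le_rfl (comm_mem hg hw (by omega))
      · exact Subgroup.mem_centralizer_singleton_iff.2 (commutatorElement_eq_one_iff_mul_comm.1 e8).symm
    refine commutatorElement_eq_one_iff_mul_comm.2 (Subgroup.mem_centralizer_singleton_iff.1 (hD ?_)).symm
    rwa [show k + 1 = m + (d + 1) by omega]

end Cfsg.Agent.Fusion.MaxPow
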