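/-
The normalizer of a level cannot move the line of the transvections.
-/
import Cfsg.Agent.Fusion.RankThree.Next
import Cfsg.Agent.Fusion.RankThree.Pairing
set_option autoImplicit false

namespace Cfsg.Agent.Fusion.RankThree

open Cfsg Cfsg.FusionSystem Cfsg.Agent.Fusion.CenterSq
open scoped commutatorElement

variable {Ω : Type*} [Group Ω] {S : Subgroup Ω} {F : FusionSystem S} {p : ℕ} [hp : Fact p.Prime]
  {i n : ℕ} {l : ZMod p} {B A M E T Z L : Subgroup Ω} {z x : Ω} {η : Ω → Ω}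

theorem eq_zero_of_central [Finite S] (d : Datum F p E T Z z x) (hzS : z ∉ zS S) {w : Ω}
    (hw : w ∈ Subgroup.zpowers z) (hwS : w ∈ zS S) : w = 1 := by
  have hzp := d.exp z (d.ZE d.zZ)
  obtain ⟨m, rfl⟩ := exists_pw hzp hw
  by_contra hne
  have hm : m ≠ 0 := fun e => hne (by simp [pw, e])
  refine hzS ?_
  have := pw_mem hwS m⁻¹
  rwa [← pw_mul hzp, mul_inv_cancel₀ hm, pw_one] at this

/-- If the line is not central in `S`, the centre of `T` is `Z₂(S)`. -/
theorem Datum.eq_zTwo [Finite S] (d : Datum F p E T Z z x) (hm : MaxCl.MC p n S) (hzS : z ∉ zS S) :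
    Z = MaxCl.zTwo S := by
  haveI : Finite Z := finite_of_le (d.ZE.trans d.centric.1)
  have hES := d.centric.1
  have hzE : zS S ≤ E := fun v hv => d.centric.2 E (isConj_refl hES) ⟨hv.1, fun e he => hv.2 e (hES he)⟩
  have hTS : T ≤ S := by rw [d.nrm]; exact normalizerIn_le
  have hle : MaxCl.zTwo S ≤ Z := by
    intro u hu
    haveI : Finite E := finite_of_le hES
    have huS : u ∈ S := MaxCl.zTwo_le hu
    have hc : ∀ s ∈ S, u * s * u⁻¹ * s⁻¹ ∈ zS S := fun s hs => by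
      have := (zS S).inv_mem (hm.zTwo_comm hu hs)
      simpa [mul_assoc] using this
    have huT : u ∈ T := by
      rw [d.nrm]
      refine ⟨huS, Subgroup.mem_normalizer_fintype fun e he => ?_⟩
      have := E.mul_mem (hzE (hc e (hES he))) he
      rwa [inv_mul_cancel_right] at this
    have key : ∀ a ∈ T, ∀ e ∈ E, a * e * a⁻¹ * e⁻¹ ∈ zS S → a * e = e * a := fun a ha e he hae => by
      have h1 : e⁻¹ * (a * e * a⁻¹) = a * e * a⁻¹ * e⁻¹ := by
        have h0 := hae.2 e (hES he)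
        calc e⁻¹ * (a * e * a⁻¹) = e⁻¹ * ((a * e * a⁻¹ * e⁻¹) * e) := by group
          _ = e⁻¹ * (e * (a * e * a⁻¹ * e⁻¹)) := by rw [h0]
          _ = _ := inv_mul_cancel_left _ _
      have h2 := eq_zero_of_central d hzS (d.tv a ha e he) (h1.symm ▸ hae)
      exact mul_inv_eq_iff_eq_mul.mp (inv_mul_eq_one.mp h2).symm
    have huE : u ∈ E := d.tv_ne u huT (key u huT x d.xE (hc x (hES d.xE)))
    refine d.cent_eq u huT fun a ha => key a ha u huE ?_
    exact hm.zTwo_comm hu (hTS ha)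
  exact (eq_of_le_of_card hle (by rw [d.cardZ, hm.card_zTwo, hm.card_zS, sq])).symm

theorem sup_eq_of_card [Finite S] (hS : IsPGroup p S) {K Q : Subgroup Ω} (hKQ : K ≤ Q) (hQS : Q ≤ S)
    {v : Ω} (hv : v ∈ Q) (hvK : v ∉ K) (hc : Nat.card Q ≤ p * Nat.card K) : K ⊔ Subgroup.zpowers v = Q := by
  have hle : K ⊔ Subgroup.zpowers v ≤ Q := sup_le hKQ (Subgroup.zpowers_le.mpr hv)
  haveI := finite_of_le hQS
  haveI := finite_of_le hle
  haveI := finite_of_le hKQ
  refine eq_of_le_of_card hle (hc.trans ?_)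
  have h1 := card_lt_of_lt (lt_of_le_of_ne (le_sup_left : K ≤ K ⊔ Subgroup.zpowers v) fun e =>
    hvK (e.ge (Subgroup.mem_sup_right (Subgroup.mem_zpowers v))))
  obtain ⟨a, ha⟩ := IsPGroup.iff_card.mp (hS.to_le (hle.trans hQS))
  obtain ⟨b, hb⟩ := IsPGroup.iff_card.mp (hS.to_le (hKQ.trans hQS))
  rw [ha, hb, Nat.pow_lt_pow_iff_right hp.out.one_lt] at h1
  rw [ha, hb, ← pow_succ']
  exact Nat.pow_le_pow_right hp.out.pos h1

theorem Lev.moved (h : Lev F p i l B A M E T Z z x η) [Finite S] (hS : IsPGroup p S) (hm : MaxCl.MC p n S)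
    (hn5 : 5 ≤ n) (hnp : n ≤ p + 1) (hp5 : 5 ≤ p) (hgen : orderOf l = p - 1) (hl : l ≠ 0) (hlt : B < S)
    (hT : Top S p i B A M Z L x) (hinv : ∀ y ∈ L, η y ∈ L)
    (hz : ∃ y ∈ normalizerIn S B, y * z ≠ z * y) : False := by
  classical
  obtain ⟨y, hy, hyz⟩ := hz
  set N := normalizerIn S B with hN
  haveI := finite_of_le h.BS
  haveI : Finite N := finite_of_le normalizerIn_le
  set Λ := fun k => Subgroup.lowerCentralSeries S k with hΛ
  have hΛS : ∀ k, Λ k ≤ S := fun k => hm.lcs_le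
  have hΛf : ∀ k, Finite (Λ k) := fun k => finite_of_le (hΛS k)
  have hΛc : ∀ k, 1 ≤ k → k ≤ n - 1 → Nat.card (Λ k) = p ^ (n - 1 - k) := fun k h1 h2 => hm.lcs_card h1 h2
  have hΛmono : ∀ {a b}, a ≤ b → Λ b ≤ Λ a := fun hab => Subgroup.lowerCentralSeries_antitone _ hab
  have hΛcomm : ∀ {k a b}, a ∈ Λ k → b ∈ S → ⁅a, b⁆ ∈ Λ (k + 1) := fun {k a b} ha hb => by
    show _ ∈ Subgroup.lowerCentralSeries S (k + 1)
    rw [Subgroup.lowerCentralSeries_succ]
    exact Subgroup.commutator_mem_commutator ha hb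
  have hx : MaxPow.Mx p n S := ⟨hm.card, by omega, hm.cls⟩
  have hmap : ∀ k, (Subgroup.lowerCentralSeries (⊤ : Subgroup S) k).map S.subtype = Λ k := fun k =>
    Subgroup.top_subtype_lowerCentralSeries _ _
  have hmem : ∀ {k} (u : S), (u : Ω) ∈ Λ k ↔ u ∈ Subgroup.lowerCentralSeries (⊤ : Subgroup S) k :=
    fun {k} u => by rw [← hmap k]; exact Subgroup.mem_map_iff_mem S.subtype_injective
  have hzS : z ∉ zS S := fun hz' => hyz (hz'.2 y hy.1)
  have hZ : Z = MaxCl.zTwo S := h.dat.eq_zTwo hm hzS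
  have hZΛ : Z = Λ (n - 3) := hZ.trans hm.zTwo_eq
  have hxS : x ∈ S := h.BS (h.AB h.xA)
  have hET : E ≤ T := by rw [h.dat.nrm]; exact le_normalizerIn h.dat.centric.1
  have hxC : x ∈ MaxCl.cTwo S := ⟨hxS, fun v hv => (h.cent v (hZ.ge hv) x (h.AB h.xA)).symm⟩
  have hΛ1 : Λ 1 ≤ MaxCl.cTwo S := fun a ha => ⟨hΛS 1 ha, fun v hv => by
    have hv' : v ∈ Λ (n - 3) := hm.zTwo_eq.le hv
    have : ⁅(⟨a, hΛS 1 ha⟩ : S), (⟨v, hΛS _ hv'⟩ : S)⁆ = 1 := hx.eq_one le_rfl
      (MaxPow.comm_mem ((hmem _).mp ha) ((hmem _).mp hv') (by omega))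
    exact (congrArg Subtype.val (commutatorElement_eq_one_iff_mul_comm.mp this)).symm⟩
  have hin : 3 + i ≤ n := by
    have := card_lt_of_lt hlt
    rw [h.cardB, hm.card, Nat.pow_lt_pow_iff_right hp.out.one_lt] at this
    omega
  have hin' : i + 4 ≤ n := by
    have := card_lt_of_lt hlt
    rw [h.cardB, hm.card, Nat.pow_lt_pow_iff_right hp.out.one_lt] at this
    omega
  obtain ⟨f, h0, h1, hi, hi1, hcard, hf⟩ := h.chain
  have hfS : ∀ k, k ≤ i → f k ≤ S := by
    intro k hk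
    induction hd : i - k generalizing k with
    | zero => rw [show k = i by omega, hi]; exact h.BS
    | succ d ih => exact (hf k (by omega)).1.trans (ih (k + 1) (by omega) (by omega))
  have hfx : ∀ k, k ≤ i → x ∈ f k := by
    intro k hk
    induction k with
    | zero => rw [h0]; exact h.dat.xE
    | succ k ih => exact (hf k hk).1 (ih (by omega))
  have hfn : ∀ k, k < i → normalizerIn S (f k) = f (k + 1) := by
    intro k hk
    haveI := finite_of_le (normalizerIn_le : normalizerIn S (f k) ≤ S)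
    haveI := finite_of_le (hfS (k + 1) hk)
    haveI := finite_of_le (hfS k hk.le)
    have hle : f (k + 1) ≤ normalizerIn S (f k) := fun g hg => ⟨hfS (k + 1) hk hg,
      Subgroup.mem_normalizer_fintype fun u hu => (hf k hk).2.1 g hg u hu⟩
    refine (eq_of_le_of_card hle ?_).symm
    rw [hcard (k + 1) hk, show 3 + (k + 1) = 4 + k by omega]
    exact (hf k hk).2.2 _ id (Iso.refl (hfS k hk.le))
  have hnorm : ∀ {K : Subgroup Ω} {m : ℕ}, K ≤ S → Λ (m + 1) ≤ K → Λ m ≤ normalizerIn S K := by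
    intro K m hKS hK a ha
    haveI := finite_of_le hKS
    refine ⟨hΛS m ha, Subgroup.mem_normalizer_fintype fun u hu => ?_⟩
    have := K.mul_mem (hK (hΛcomm ha (hKS hu))) hu
    simpa [commutatorElement_def] using this
  have hfΛ : ∀ k, k ≤ i → Λ (n - 3 - k) ≤ f k := by
    intro k hk
    induction k with
    | zero => rw [Nat.sub_zero, ← hZΛ, h0]; exact h.dat.ZE
    | succ k ih =>
      rw [← hfn k hk]
      refine hnorm (hfS k (by omega)) ?_
      rw [show n - 3 - (k + 1) + 1 = n - 3 - k by omega]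
      exact ih (by omega)
  -- `Γ (n - 4)` lies in `T` and moves `x`
  have hΛT : Λ (n - 4) ≤ T := by
    rw [h.dat.nrm]
    exact hnorm h.dat.centric.1 (by rw [show n - 4 + 1 = n - 3 by omega, ← hZΛ]; exact h.dat.ZE)
  have hmove : ∃ a ∈ Λ (n - 4), a * x ≠ x * a := by
    by_contra hno
    push Not at hno
    haveI := finite_of_le h.dat.centric.1
    have heq : Λ (n - 4) = E := eq_of_le_of_card (fun a ha => h.dat.tv_ne a (hΛT ha) (hno a ha)) (by
      rw [h.dat.cardE, hΛc _ (by omega) (by omega), show n - 1 - (n - 4) = 3 by omega])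
    have hTS : S ≤ T := by
      rw [h.dat.nrm]
      exact fun s hs => ⟨hs, Subgroup.mem_normalizer_fintype fun e he => by
        have := E.mul_mem (E.inv_mem (heq.le (hΛmono (by omega : n - 4 ≤ n - 4 + 1) (hΛcomm (heq.ge he) hs)))) he
        simpa [commutatorElement_def, mul_assoc] using this⟩
    haveI : Finite T := finite_of_le (h.TB.trans h.BS)
    have := card_le_of_le hTS
    rw [hm.card, h.dat.cardT, Nat.pow_le_pow_iff_right hp.out.one_lt] at this
    omega
  have hx1 : x ∉ Λ 1 := by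
    intro hx1
    obtain ⟨a, ha, hax⟩ := hmove
    have hc : ⁅(⟨a, hΛS _ ha⟩ : S), ⟨x, hxS⟩⁆ ∈ Subgroup.lowerCentralSeries (⊤ : Subgroup S) (n - 2) :=
      MaxPow.comm_mem ((hmem _).mp ha) ((hmem _).mp hx1) (by omega)
    have hc' : ⁅a, x⁆ ∈ zS S := by rw [hm.zS_eq]; exact (hmem _).mpr hc
    have h2 : x⁻¹ * (a * x * a⁻¹) = ⁅a, x⁆ := by
      have h0 := hc'.2 x hxS
      calc x⁻¹ * (a * x * a⁻¹) = x⁻¹ * (⁅a, x⁆ * x) := by rw [commutatorElement_def]; group
        _ = x⁻¹ * (x * ⁅a, x⁆) := by rw [h0]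
        _ = _ := inv_mul_cancel_left _ _
    have h3 := eq_zero_of_central h.dat hzS (h.dat.tv a (hΛT ha) x h.dat.xE) (h2.symm ▸ hc')
    rw [h2] at h3
    exact hax (commutatorElement_eq_one_iff_mul_comm.mp h3)
  -- the normalizer is all of `S`
  have hni : n = i + 4 := by
    by_contra hne
    have hΛN : Λ (n - 4 - i) ≤ N := hnorm h.BS (by
      rw [show n - 4 - i + 1 = n - 3 - i by omega, ← hi]; exact hfΛ i le_rfl)
    have hle : N ≤ MaxCl.cTwo S := by
      rw [← sup_eq_of_card hS hΛN normalizerIn_le (le_normalizerIn h.BS (h.AB h.xA))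
        (fun hx' => hx1 (hΛmono (by omega) hx'))
        (by rw [hT.cardN, hΛc _ (by omega) (by omega), ← pow_succ', show n - 1 - (n - 4 - i) + 1 = 4 + i by omega])]
      exact sup_le ((hΛmono (by omega)).trans hΛ1) (Subgroup.zpowers_le.mpr hxC)
    exact hyz ((hle hy).2 z (hZ.le h.dat.zZ)).symm
  have hNS : N = S := eq_of_le_of_card normalizerIn_le (by rw [hT.cardN, hm.card, hni, add_comm])
  have hBΛ : Λ 1 ≤ B := by
    have := hfΛ i le_rfl
    rwa [hi, show n - 3 - i = 1 by omega] at this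
  have hLΛ : L = Λ 1 := by
    rw [hT.Ldef, show normalizerIn S B = S from hNS, hZΛ]
    have e1 : Λ 1 = ⁅S, S⁆ := by
      show Subgroup.lowerCentralSeries S 1 = _
      rw [Subgroup.lowerCentralSeries_succ, Subgroup.lowerCentralSeries_zero]
    rw [← e1, sup_eq_left.mpr (hΛmono (by omega : 1 ≤ n - 3))]
  have hMΛ : M = Λ 2 := by
    haveI : Finite M := finite_of_le (h.MB.trans h.BS)
    refine (eq_of_le_of_card ?_ ?_).symm
    · rw [← hT.inf]
      refine le_inf ?_ (hLΛ ▸ hΛmono (by omega))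
      have := hfΛ (i - 1) (by omega)
      rwa [hi1, show n - 3 - (i - 1) = 2 by have := h.one_le; omega] at this
    · rw [h.cardM, hΛc 2 (by omega) (by omega), show n - 1 - 2 = 1 + i by omega]
  let x' : S := ⟨x, hxS⟩
  have hxCj : ∀ j, 1 ≤ j → j + 4 ≤ n → x' ∉ MaxPow.C S j := by
    intro j hj1 hj4 hxj
    have hcm : ∀ a ∈ Λ j, ⁅a, x⁆ ∈ Λ (j + 2) := fun a ha =>
      (hmem ⁅(⟨a, hΛS j ha⟩ : S), x'⁆).mpr (MaxPow.mem_C.mp hxj _ ((hmem _).mp ha))
    rcases Nat.lt_or_ge (j + 4) n with hj5 | hj5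
    · set k := n - 5 - j with hk
      have hki : k < i := by omega
      have heq : f k = Λ (j + 2) ⊔ Subgroup.zpowers x := (sup_eq_of_card hS
        (by have := hfΛ k hki.le; rwa [show n - 3 - k = j + 2 by omega] at this) (hfS k hki.le) (hfx k hki.le)
        (fun hx' => hx1 (hΛmono (by omega) hx'))
        (by rw [hcard k hki.le, hΛc _ (by omega) (by omega), ← pow_succ', show n - 1 - (j + 2) + 1 = 3 + k by omega])).symm
      have hle : Λ j ≤ f (k + 1) := by
        rw [← hfn k hki]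
        intro a ha
        haveI := finite_of_le (hfS k hki.le)
        refine ⟨hΛS j ha, Subgroup.mem_normalizer_fintype fun u hu => ?_⟩
        have hsup : f k ≤ (f k).comap (MulAut.conj a).toMonoidHom := by
          conv_lhs => rw [heq]
          refine sup_le (fun v hv => ?_) (Subgroup.zpowers_le.mpr ?_)
          · show a * v * a⁻¹ ∈ f k
            rw [heq]
            refine Subgroup.mem_sup_left ?_
            have := (Λ (j + 2)).mul_mem (hΛmono (by omega : j + 2 ≤ j + 2 + 1) (hΛcomm hv (hΛS j ha))) hv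
            have h2 := (Λ (j + 2)).mul_mem ((Λ (j + 2)).inv_mem (hΛmono (by omega : j + 2 ≤ j + 2 + 1) (hΛcomm hv (hΛS j ha)))) hv
            simpa [commutatorElement_def, mul_assoc] using h2
          · show a * x * a⁻¹ ∈ f k
            have := (f k).mul_mem (heq.ge (Subgroup.mem_sup_left (hcm a ha))) (hfx k hki.le)
            simpa [commutatorElement_def, mul_assoc] using this
        exact hsup hu
      haveI := finite_of_le (hfS (k + 1) hki)
      have heq' := eq_of_le_of_card hle (by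
        rw [hcard _ hki, hΛc j hj1 (by omega), show n - 1 - j = 3 + (k + 1) by omega])
      exact hx1 (hΛmono hj1 (heq'.ge (hfx (k + 1) hki)))
    · obtain rfl : j = n - 4 := by omega
      obtain ⟨a, ha, hax⟩ := hmove
      have hc' : ⁅a, x⁆ ∈ zS S := by
        rw [hm.zS_eq]
        have := hcm a ha
        rwa [show n - 4 + 2 = n - 2 by omega] at this
      have h2 : x⁻¹ * (a * x * a⁻¹) = ⁅a, x⁆ := by
        have h0 := hc'.2 x hxS
        calc x⁻¹ * (a * x * a⁻¹) = x⁻¹ * (⁅a, x⁆ * x) := by rw [commutatorElement_def]; group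
          _ = x⁻¹ * (x * ⁅a, x⁆) := by rw [h0]
          _ = _ := inv_mul_cancel_left _ _
      have h3 := eq_zero_of_central h.dat hzS (h.dat.tv a (hΛT ha) x h.dat.xE) (h2.symm ▸ hc')
      rw [h2] at h3
      exact hax (commutatorElement_eq_one_iff_mul_comm.mp h3)
  have hxZ : ∀ u ∈ Subgroup.lowerCentralSeries (⊤ : Subgroup S) (n - 3), x' * u = u * x' := fun u hu =>
    Subtype.ext (h.cent u (hZΛ.ge ((hmem u).mpr hu)) x (h.AB h.xA))
  -- the exponents
  obtain ⟨a0, ha0, ha0'⟩ := SetLike.not_le_iff_exists.mp (hx.not_le (k := n - 4) (by omega) (by omega))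
  set a : Ω := (a0 : Ω) with ha_def
  have haΛ : a ∈ Λ (n - 4) := (hmem a0).mpr ha0
  have haZ : a ∉ Z := fun ha => ha0' (by
    rw [show n - 4 + 1 = n - 3 by omega]
    exact (hmem a0).mp (hZΛ.le ha))
  have hcnm := hx.comm_not_mem (by omega) (hxCj (n - 4) (by omega) (by omega)) ha0 ha0'
  have hzp := h.dat.exp z (h.dat.ZE h.dat.zZ)
  have hxB := h.AB h.xA
  have haB : a ∈ B := h.TB (hΛT haΛ)
  have haxz : ⁅a, x⁆ ∈ Subgroup.zpowers z := by
    have h1 : ⁅a, x⁆ ∈ Z := by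
      rw [hZΛ, show n - 3 = n - 4 + 1 by omega]
      exact hΛcomm haΛ hxS
    have h2 : x⁻¹ * (a * x * a⁻¹) = ⁅a, x⁆ := by
      have h0 := h.cent _ h1 x hxB
      calc x⁻¹ * (a * x * a⁻¹) = x⁻¹ * (⁅a, x⁆ * x) := by rw [commutatorElement_def]; group
        _ = x⁻¹ * (x * ⁅a, x⁆) := by rw [h0]
        _ = _ := inv_mul_cancel_left _ _
    exact h2 ▸ h.dat.tv a (hΛT haΛ) x h.dat.xE
  obtain ⟨α, hα⟩ := exists_pw hzp haxz
  have hα0 : α ≠ 0 := fun e => by
    rw [e, show pw z (0 : ZMod p) = 1 by simp [pw]] at hα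
    refine hcnm ?_
    rw [show ⁅a0, x'⁆ = 1 from Subtype.ext hα]
    exact one_mem _
  -- the second pairing is nontrivial
  obtain ⟨r, hr, hra⟩ := hx.rotate hn5 hxZ ha0 (x := x') (y := ⟨y, hy.1⟩) fun e => by
    rw [commutatorElement_eq_one_iff_mul_comm] at e
    have e' : Commute y (pw z α) := by
      have := (congrArg Subtype.val e).symm
      rw [← hα]; exact this
    refine hyz ?_
    have := e'.pow_right α⁻¹.val
    change Commute y (pw (pw z α) α⁻¹) at this
    rwa [← pw_mul hzp, mul_inv_cancel₀ hα0, pw_one] at this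
  have hrΛ : (r : Ω) ∈ Λ 1 := (hmem r).mpr hr
  -- the automorphism on `Γ (n - 4)`
  have hΛ4 : ∀ u ∈ Λ (n - 4), η u ∈ Λ (n - 4) := by
    intro u hu
    have huL : u ∈ L := hLΛ ▸ hΛmono (by omega) hu
    have hv1 : η u ∈ Λ 1 := hLΛ ▸ hinv u huL
    have hvx : ⁅η u, x⁆ ∈ Z := by
      obtain ⟨b, hb, hbx⟩ := h.iso.surj hxB
      have h1 : ⁅u, b⁆ ∈ Z := by
        rw [hZΛ, show n - 3 = n - 4 + 1 by omega]
        exact hΛcomm hu (h.BS hb)
      have h2 := h.Zchar h.iso _ h1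
      have huB := hT.LB huL
      rwa [commutatorElement_def, h.iso.mor.map_mul (B.mul_mem (B.mul_mem huB hb) (B.inv_mem huB)) (B.inv_mem hb),
        h.iso.mor.map_conj huB hb, h.iso.mor.map_inv hb, hbx, ← commutatorElement_def] at h2
    let v' : S := ⟨η u, hΛS 1 hv1⟩
    have key : ∀ j, 1 ≤ j → j + 4 ≤ n → v' ∈ Subgroup.lowerCentralSeries (⊤ : Subgroup S) j := by
      intro j hj
      induction j, hj using Nat.le_induction with
      | base => exact fun _ => (hmem v').mp hv1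
      | succ j hj ih =>
        intro hjn
        by_contra hne
        refine hx.comm_not_mem hj (hxCj j hj (by omega)) (ih (by omega)) hne ?_
        exact (hmem ⁅v', x'⁆).mp (hΛmono (by omega) (hZΛ.le hvx))
    exact (hmem v').mpr (key (n - 4) (by omega) (by omega))
  haveI : Finite Z := finite_of_le ((h.ZM.trans h.MB).trans h.BS)
  haveI := hΛf (n - 4)
  have hZ4 : Z ≤ Λ (n - 4) := by rw [hZΛ]; exact hΛmono (by omega)
  have hc4 : Nat.card (Λ (n - 4)) = p * Nat.card Z := by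
    rw [hΛc _ (by omega) (by omega), h.dat.cardZ, show n - 1 - (n - 4) = 3 by omega]; ring
  obtain ⟨j, hj⟩ := exists_gen hZ4 (fun g hg => h.normZ g (le_normalizerIn h.BS (h.TB (hΛT hg)))) hc4 haΛ haZ _ (hΛ4 a haΛ)
  set m := (a ^ j)⁻¹ * η a with hm_def
  have hηa : η a = a ^ j * m := by rw [hm_def, mul_inv_cancel_left]
  have hηcomm : ∀ {u v : Ω}, u ∈ B → v ∈ B → η ⁅u, v⁆ = ⁅η u, η v⁆ := fun {u v} hu hv => by
    rw [commutatorElement_def, h.iso.mor.map_mul (B.mul_mem (B.mul_mem hu hv) (B.inv_mem hu)) (B.inv_mem hv),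
      h.iso.mor.map_conj hu hv, h.iso.mor.map_inv hv, ← commutatorElement_def]
  have hΛcom : ∀ {s t u v}, u ∈ Λ s → v ∈ Λ t → n - 1 ≤ s + t + 1 → Commute u v := fun {s t u v} hu hv hst => by
    have : ⁅(⟨u, hΛS _ hu⟩ : S), (⟨v, hΛS _ hv⟩ : S)⁆ = 1 := hx.eq_one le_rfl
      (MaxPow.comm_mem ((hmem _).mp hu) ((hmem _).mp hv) hst)
    exact congrArg Subtype.val (commutatorElement_eq_one_iff_mul_comm.mp this)
  have hjl : (j : ZMod p) = l * l := by
    set d := (pw x l⁻¹)⁻¹ * η x with hd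
    have hdM : d ∈ M := h.exA x h.xA
    have hηx : η x = pw x l⁻¹ * d := by rw [hd, mul_inv_cancel_left]
    have h1 := hηcomm haB hxB
    have h2 : ⁅a ^ j * m, pw x l⁻¹ * d⁆ = ⁅a ^ j, pw x l⁻¹⁆ := by
      rw [comm_mul_right_commute (h.cent m hj _ (B.mul_mem (pw_mem hxB _) (h.MB hdM))).symm]
      have hd' : Commute (a ^ j) d := (hΛcom haΛ (hMΛ.le hdM) (by omega)).pow_left j
      rw [commutatorElement_def, commutatorElement_def,
        show a ^ j * (pw x l⁻¹ * d) * (a ^ j)⁻¹ = (a ^ j * pw x l⁻¹ * (a ^ j)⁻¹) * (a ^ j * d * (a ^ j)⁻¹) by group,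
        hd'.eq, mul_inv_cancel_right, mul_inv_rev]
      group
    have hcz : ∀ u ∈ B, Commute u (pw z α) := fun u hu => h.cent _ (pw_mem h.dat.zZ α) u hu
    rw [hηa, hηx, h2, show pw x l⁻¹ = x ^ (l⁻¹ : ZMod p).val from rfl,
      comm_pow hα (hcz a haB) (hcz x hxB), hα, mor_map_pw h.iso.mor (h.MB (h.ZM h.dat.zZ)), h.ηz,
      pow_eq_pw (by rw [pw, ← pow_mul, mul_comm, pow_mul, hzp, one_pow]), ← pw_mul hzp, ← pw_mul hzp] at h1
    have h3 := pw_inj hzp h.dat.z_ne h1
    push_cast at h3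
    rw [ZMod.natCast_zmod_val] at h3
    field_simp at h3
    linear_combination -h3
  -- the exponent on the centre
  set e := l ^ (i + 1) with he
  have hrB : (r : Ω) ∈ B := hBΛ hrΛ
  have hrL : (r : Ω) ∈ L := hLΛ ▸ hrΛ
  set m' := (pw (r : Ω) e)⁻¹ * η r with hm'
  have hm'M : m' ∈ M := hT.inf.le ⟨h.exB r hrB, L.mul_mem (L.inv_mem (pw_mem hrL _)) (hinv r hrL)⟩
  have hηr : η r = pw (r : Ω) e * m' := by rw [hm', mul_inv_cancel_left]
  set w := ⁅(r : Ω), a⁆ with hw
  have hwS : w ∈ zS S := by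
    rw [hm.zS_eq]
    exact (hmem ⁅r, a0⁆).mpr (MaxPow.comm_mem hr ha0 (by omega))
  have hwZ : w ∈ Z := by rw [hZ]; exact hm.zS_le_zTwo hwS
  have hw1 : w ≠ 1 := fun e' => hra (Subtype.ext e')
  have hηw : η w = w ^ (e.val * j) := by
    rw [hw, hηcomm hrB haB, hηr, hηa, ← hw]
    have hc1 : Commute m' (a ^ j * m) :=
      ((hΛcom (hMΛ.le hm'M) haΛ (by omega)).pow_right j).mul_right (h.cent m hj m' (h.MB hm'M))
    rw [comm_mul_right_commute hc1]
    have hcm' : Commute (pw (r : Ω) e) m := h.cent m hj _ (pw_mem hrB e)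
    rw [show ⁅pw (r : Ω) e, a ^ j * m⁆ = ⁅pw (r : Ω) e, a ^ j⁆ by
      rw [commutatorElement_def, commutatorElement_def,
        show pw (r : Ω) e * (a ^ j * m) * (pw (r : Ω) e)⁻¹ = (pw (r : Ω) e * a ^ j * (pw (r : Ω) e)⁻¹) * (pw (r : Ω) e * m * (pw (r : Ω) e)⁻¹) by group,
        hcm'.eq, mul_inv_cancel_right, mul_inv_rev]
      group]
    exact comm_pow (rfl : ⁅(r : Ω), a⁆ = w) (hwS.2 r r.2) (hwS.2 a (hΛS _ haΛ)) j e.val
  have hwp : w ^ p = 1 := h.dat.exp w (h.dat.ZE hwZ)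
  have hej : e * (j : ZMod p) = 1 := by
    have h1 := h.exZ w hwZ
    rw [pw_one, hηw, pow_eq_pw hwp] at h1
    push_cast at h1
    rw [ZMod.natCast_zmod_val] at h1
    have h2 : w⁻¹ * pw w (e * (j : ZMod p)) ∈ zS S := mul_mem (inv_mem hwS) (pw_mem hwS _)
    have h3 := eq_zero_of_central h.dat hzS h1 h2
    rw [inv_mul_eq_one] at h3
    refine (pw_inj hwp hw1 ?_).symm
    rw [pw_one]; exact h3
  have hpow : l ^ (n - 1) = 1 := by
    rw [he, hjl, ← sq, ← pow_add, show i + 1 + 2 = n - 1 by omega] at hej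
    exact hej
  have hdvd := orderOf_dvd_of_pow_eq_one hpow
  rw [hgen] at hdvd
  obtain ⟨c, hc⟩ := hdvd
  have hc1 : c = 1 := by
    rcases Nat.lt_or_ge c 2 with h2 | h2
    · rcases Nat.eq_zero_or_pos c with rfl | h3 <;> [(simp at hc; omega); omega]
    · have := Nat.mul_le_mul_left (p - 1) h2
      omega
  subst hc1
  have hodd : n % 2 = 1 := by
    rcases hp.out.eq_two_or_odd with h2 | h2 <;> omega
  exact hra (hx.pairing hodd hn5 hxZ hxCj r hr a0 ha0)

end Cfsg.Agent.Fusion.RankThree
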