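/-
No elementary abelian essential subgroup of order p³ in groups of maximal class of order at least p⁵.
-/
import Cfsg.Agent.Fusion.RankThree.Moved
import Cfsg.Agent.Fusion.RankThree.LargeClass
set_option autoImplicit false

namespace Cfsg.Agent.Fusion.RankThree

open Cfsg Cfsg.FusionSystem Cfsg.Agent.Fusion.CenterSq
open scoped commutatorElement

variable {Ω : Type*} [Group Ω] {S : Subgroup Ω} {F : FusionSystem S} {p : ℕ} [hp : Fact p.Prime] {n : ℕ}

theorem Lev.false [Finite S] (hS : IsPGroup p S) (hF : F.IsSaturated p) (hm : MaxCl.MC p n S) (hn5 : 5 ≤ n)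
    (hnp : n ≤ p + 1) (hp5 : 5 ≤ p) {l : ZMod p} (hgen : orderOf l = p - 1) (hl : l ≠ 0) :
    ∀ (k i : ℕ), n - i = k → ∀ (B A M E T Z : Subgroup Ω) (z x : Ω) (η : Ω → Ω),
      ¬ Lev F p i l B A M E T Z z x η := by
  intro k
  induction k using Nat.strong_induction_on with
  | _ k ih =>
    intro i hk B A M E T Z z x η h
    obtain ⟨Q, hQ, hfn⟩ := exists_fullyNormalized (F := F) h.BS
    obtain ⟨φ, hφ⟩ := isConj_iff.mp hQ
    obtain ⟨A1, M1, E1, T1, Z1, η1, h1, -, -, -⟩ := h.transport hS hφ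
    rcases eq_or_lt_of_le h1.BS with rfl | hlt
    · have hle : Z1 ≤ zS Q := fun e he => ⟨h1.MB (h1.ZM he), fun b hb => h1.cent e he b hb⟩
      haveI : Finite (zS Q) := finite_of_le zS_le
      have := card_le_of_le hle
      rw [h1.dat.cardZ, hm.card_zS] at this
      exact absurd this (by nlinarith)
    · obtain ⟨A2, M2, E2, T2, Z2, z2, x2, η2, L, h2, hT, hinv⟩ := h1.adjust hS hl hlt
      have hin : i + 4 ≤ n := by
        have := card_lt_of_lt hlt
        rw [h1.cardB, hm.card, Nat.pow_lt_pow_iff_right hp.out.one_lt] at this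
        omega
      by_cases hz : ∀ y ∈ normalizerIn S Q, y * z2 = z2 * y
      · have hli : l ^ (i + 1) ≠ 1 := fun e => by
          have := Nat.le_of_dvd (by omega) (hgen ▸ orderOf_dvd_of_pow_eq_one e)
          omega
        obtain ⟨η3, h3⟩ := h2.next hS hF hfn hl hli hT hinv hz
        exact ih (n - (i + 1)) (by omega) (i + 1) rfl _ _ _ _ _ _ _ _ _ h3
      · push Not at hz
        exact h2.moved hS hm hn5 hnp hp5 hgen hl hlt hT hinv hz

theorem no_elementary_cube [Finite S] (hS : IsPGroup p S) (hF : F.IsSaturated p) (hm : MaxCl.MC p n S)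
    (hn5 : 5 ≤ n) (hp5 : 5 ≤ p) {E : Subgroup Ω} (hE : F.IsEssential p E)
    (hab : ∀ a ∈ E, ∀ b ∈ E, a * b = b * a) (hexp : ∀ a ∈ E, a ^ p = 1) (hcard : Nat.card E = p ^ 3) : False := by
  classical
  have hES : E ≤ S := hE.1.1
  haveI := finite_of_le hES
  obtain ⟨T, Z, z, x, c, d, hc, hcz, hf⟩ := base hS hF hE hab hexp hcard
    (hm.card ▸ Nat.pow_le_pow_right hp.out.pos hn5)
  haveI : Finite (normalizerIn S E) := finite_of_le normalizerIn_le
  rcases Nat.lt_or_ge n (p + 2) with hlt | hge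
  swap
  · refine (MaxPow.Mx.no_rank_three (n := n) (G := S) ⟨hm.card, by omega, hm.cls⟩ hge hp5
      (E := E.subgroupOf S) ?_ ?_ ?_ ?_ ?_)
    · rw [Nat.card_congr (Subgroup.subgroupOfEquivOfLe hES).toEquiv, hcard]
    · exact fun a ha b hb => Subtype.ext (hab _ ha _ hb)
    · exact fun a ha => Subtype.ext (hexp _ ha)
    · exact fun a ha => hE.1.2 E (isConj_refl hES) ⟨a.2, fun e he =>
        (congrArg Subtype.val (ha ⟨e, hES he⟩ he)).symm⟩
    · refine le_trans (Nat.card_le_card_of_injective (fun g => (⟨((g : S) : Ω), (g : S).2,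
        Subgroup.mem_normalizer_fintype fun e he =>
          (Subgroup.mem_normalizer_iff.mp g.2 ⟨e, hES he⟩).mp he⟩ : normalizerIn S E)) ?_) ?_
      · exact fun a b e => Subtype.ext (Subtype.ext (congrArg Subtype.val e :))
      · rw [← d.nrm, d.cardT]
  · obtain ⟨u, hu⟩ := IsCyclic.exists_generator (α := (ZMod p)ˣ)
    have hgen : orderOf (u : ZMod p) = p - 1 := by
      rw [orderOf_units, orderOf_eq_card_of_forall_mem_zpowers hu, Nat.card_eq_fintype_card, ZMod.card_units]
    set l : ZMod p := (u : ZMod p) with hldef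
    have hl : l ≠ 0 := u.ne_zero
    obtain ⟨f, hf1, hfE, hfz, hfx, hfc, hfEx⟩ := hf l hl
    have hET : E ≤ T := by rw [d.nrm]; exact le_normalizerIn hES
    have hTS : T ≤ S := hf1.dom_le
    haveI : Finite T := finite_of_le hTS
    have hZT : Z ≤ T := d.ZE.trans hET
    haveI : Finite Z := finite_of_le (hZT.trans hTS)
    have hfZ : ∀ e ∈ Z, f e ∈ Z := fun e he => d.cent_eq _ (hf1.mapsTo (hZT he)) fun a ha => by
      obtain ⟨b, hb, rfl⟩ := hf1.surj ha
      rw [← hf1.mor.map_mul hb (hZT he), ← hf1.mor.map_mul (hZT he) hb, d.cent e he b hb]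
    have hEZn : Nrm E Z := fun k hk e he => by rw [hab k hk e (d.ZE he), mul_inv_cancel_right]; exact he
    have hzz : Subgroup.zpowers z ≤ Z := Subgroup.zpowers_le.mpr d.zZ
    have hzp := hexp z (d.ZE d.zZ)
    have hTn : Nrm T Z := fun k hk e he => by rw [d.cent e he k hk, mul_inv_cancel_right]; exact he
    haveI := hTn.normal
    have hcom : ⁅T, T⁆ ≤ Z := by
      rw [Subgroup.commutator_le]
      intro g hg h hh
      let q := QuotientGroup.mk' (Z.subgroupOf T)
      have hq : ∀ (e : T), (e : Ω) ∈ E → ∀ a : T, Commute (q a) (q e) := fun e he a => by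
        rw [← commutatorElement_eq_one_iff_commute, ← map_commutatorElement]
        refine (QuotientGroup.eq_one_iff _).mpr (Subgroup.mem_subgroupOf.mpr ?_)
        have h1 := hzz (d.tv a a.2 e he)
        have h2 := d.cent _ h1 e (hET he)
        show (a : Ω) * e * (a : Ω)⁻¹ * (e : Ω)⁻¹ ∈ Z
        rw [show (a : Ω) * e * (a : Ω)⁻¹ * (e : Ω)⁻¹ =
          ((e : Ω) * ((e : Ω)⁻¹ * ((a : Ω) * e * (a : Ω)⁻¹))) * (e : Ω)⁻¹ by group, h2, mul_inv_cancel_right]
        exact h1
      have hET' : Nrm T E := fun k hk e he => by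
        rw [d.nrm] at hk
        exact (cj_mem_iff hk.2 e).mpr he
      have hc' : Nat.card T = p * Nat.card E := by rw [d.cardT, hcard]; ring
      obtain ⟨v, hvT, hvE⟩ := SetLike.exists_of_lt (lt_of_le_of_ne hET fun e => by
        rw [← e, hcard] at hc'
        have := hp.out.two_le
        have : 0 < p ^ 3 := pow_pos hp.out.pos 3
        nlinarith)
      obtain ⟨a, ha⟩ := exists_gen hET hET' hc' hvT hvE g hg
      obtain ⟨b, hb⟩ := exists_gen hET hET' hc' hvT hvE h hh
      have e1 : (⟨g, hg⟩ : T) = ⟨v, hvT⟩ ^ a * ⟨_, hET ha⟩ := Subtype.ext (mul_inv_cancel_left _ _).symm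
      have e2 : (⟨h, hh⟩ : T) = ⟨v, hvT⟩ ^ b * ⟨_, hET hb⟩ := Subtype.ext (mul_inv_cancel_left _ _).symm
      have h1 : Commute (q ⟨g, hg⟩) (q ⟨h, hh⟩) := by
        rw [e1, e2, map_mul, map_mul, map_pow, map_pow]
        exact (((Commute.refl _).pow_pow a b).mul_right ((hq _ hb _).pow_left a)).mul_left
          (((hq _ ha _).symm.pow_right b).mul_right (hq _ hb _))
      rw [← commutatorElement_eq_one_iff_commute, ← map_commutatorElement] at h1
      exact Subgroup.mem_subgroupOf.mp ((QuotientGroup.eq_one_iff _).mp h1)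
    have hgZ := exists_gen hzz (fun k hk e he => by
      rw [hab k (d.ZE hk) e (d.ZE (hzz he)), mul_inv_cancel_right]; exact he)
      (by rw [d.cardZ, Nat.card_zpowers, orderOf_eq_prime hzp d.z_ne, sq]) hc hcz
    refine Lev.false hS hF hm hn5 (by omega) hp5 hgen hl (n - 1) 1 rfl T E Z E T Z z x f
      ⟨d, le_rfl, ⟨fun k => if k = 0 then E else T, ?_, ?_, ?_, ?_, ?_, ?_⟩, hf1, d.ZE, d.cardZ, le_rfl, hcom,
        le_sup_right, d.xZ, d.cent, hfE, hfz, ?_, ?_, ?_⟩
    · simp
    · simp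
    · simp
    · simp
    · intro k hk
      interval_cases k
      · simpa using hcard
      · simpa using d.cardT
    · intro k hk
      obtain rfl : k = 0 := by omega
      simp only [if_true, Nat.zero_add, Nat.succ_ne_zero, if_false, Nat.add_zero]
      refine ⟨hET, fun g hg e he => ?_, fun E' g hg => ?_⟩
      · rw [d.nrm] at hg
        exact (cj_mem_iff hg.2 e).mpr he
      · rw [← d.cardT, d.nrm]
        exact hE.2.1.2 E' hg.isConj
    · refine Ex.of_gen hEZn d.xE (exists_gen d.ZE hEZn (by rw [hcard, d.cardZ]; ring) d.xE d.xZ)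
        (hf1.mor.restrict hET) hfE hfZ ?_
      rw [hfx, inv_mul_cancel]; exact one_mem _
    · rw [show l ^ (1 + 1) = l * l by ring]; exact hfEx
    · refine Ex.of_gen (fun k hk e he => ?_) hc hgZ (hf1.mor.restrict hZT) hfZ (fun y hy => ?_) ?_
      · rw [hab k (d.ZE hk) e (d.ZE (hzz he)), mul_inv_cancel_right]; exact he
      · obtain ⟨m, rfl⟩ := exists_pw hzp hy
        rw [mor_map_pw hf1.mor (hZT d.zZ), hfz]
        exact pw_mem (pw_mem (Subgroup.mem_zpowers z) _) _
      · rw [pw_one, hfc, inv_mul_cancel]; exact one_mem _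

end Cfsg.Agent.Fusion.RankThree
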